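import Mathlib.GroupTheory.Sylow
import Mathlib.GroupTheory.GroupAction.Quotient

set_option autoImplicit false

namespace Cfsg.Agent.Lib.Struct4

variable {G : Type*} [Group G] [Finite G]

theorem relIndex_sup_left_eq (H N : Subgroup G) [N.Normal] :
    H.relIndex (H ⊔ N) = H.relIndex N := by
  have a1 := Subgroup.relIndex_mul_relIndex (H ⊓ N) H (H ⊔ N) inf_le_left le_sup_left
  have a2 := Subgroup.relIndex_mul_relIndex (H ⊓ N) N (H ⊔ N) inf_le_right le_sup_right
  rw [Subgroup.relIndex_sup_right] at a2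
  rw [Subgroup.inf_relIndex_left] at a1
  rw [Subgroup.inf_relIndex_right, mul_comm] at a2
  rw [← a2] at a1
  exact mul_left_cancel₀ (a := N.relIndex H) Subgroup.index_ne_zero_of_finite a1

theorem relIndex_dvd_index_of_normal_right (H N : Subgroup G) [N.Normal] :
    H.relIndex N ∣ H.index := by
  rw [← relIndex_sup_left_eq H N]
  exact Subgroup.relIndex_dvd_index_of_le le_sup_left

theorem mem_sylow_of_normalizer {p : ℕ} [Fact p.Prime] (P : Sylow p G) {y : G}
    (hy : y ∈ Subgroup.normalizer ((P : Subgroup G) : Set G))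
    (hp : ∃ k, orderOf y = p ^ k) : y ∈ (P : Subgroup G) := by
  obtain ⟨k, hk⟩ := hp
  have hY : IsPGroup p (Subgroup.zpowers y) := IsPGroup.of_card (n := k) (by rw [Nat.card_zpowers, hk])
  have h1 : IsPGroup p (Subgroup.zpowers y ⊔ (P : Subgroup G) : Subgroup G) :=
    hY.to_sup_of_normal_right' P.isPGroup' (Subgroup.zpowers_le.2 hy)
  exact (P.is_maximal' h1 le_sup_right) ▸ Subgroup.mem_sup_left (Subgroup.mem_zpowers y)

omit [Finite G] in
theorem mem_normal_smul_sylow {p : ℕ} (P : Sylow p G) (g x : G) :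
    x ∈ ((g • P : Sylow p G) : Subgroup G) ↔ g⁻¹ * x * g ∈ (P : Subgroup G) := by
  rw [Sylow.coe_subgroup_smul, Subgroup.mem_pointwise_smul_iff_inv_smul_mem]
  simp [MulAut.conj_symm_apply, MulAut.smul_def]

theorem exists_derangement {X : Type*} [MulAction G X] [Finite X] [MulAction.IsPretransitive G X]
    [Nontrivial X] : ∃ g : G, ∀ x : X, g • x ≠ x := by
  classical
  by_contra hc
  push Not at hc
  cases nonempty_fintype G
  cases nonempty_fintype X
  have h := MulAction.sum_card_fixedBy_eq_card_orbits_mul_card_group G X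
  haveI : Subsingleton (Quotient (MulAction.orbitRel G X)) :=
    (MulAction.pretransitive_iff_subsingleton_quotient G X).1 inferInstance
  have h1 : Fintype.card (Quotient (MulAction.orbitRel G X)) ≤ 1 := Fintype.card_le_one_iff_subsingleton.2 this
  have h2 : ∑ g : G, (1 : ℕ) < ∑ g : G, Fintype.card (MulAction.fixedBy X g) := by
    refine Finset.sum_lt_sum (fun g _ => ?_) ⟨1, Finset.mem_univ _, ?_⟩
    · obtain ⟨x, hx⟩ := hc g
      exact Fintype.card_pos_iff.2 ⟨⟨x, hx⟩⟩
    · have : Fintype.card (MulAction.fixedBy X (1 : G)) = Fintype.card X :=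
        Fintype.card_congr (Equiv.subtypeUnivEquiv fun x => one_smul G x)
      rw [this]
      exact Fintype.one_lt_card
  rw [h] at h2
  simp at h2
  nlinarith

/-- The conjugates of a proper subgroup do not cover the group. -/
theorem exists_not_mem_conj (H : Subgroup G) (hH : H ≠ ⊤) :
    ∃ x : G, ∀ g : G, g⁻¹ * x * g ∉ H := by
  haveI : Nontrivial (G ⧸ H) := by
    rw [← Finite.one_lt_card_iff_nontrivial]
    exact H.one_lt_index_of_ne_top hH
  obtain ⟨x, hx⟩ := exists_derangement (G := G) (X := G ⧸ H)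
  refine ⟨x, fun g hg => hx (QuotientGroup.mk g) ?_⟩
  rw [MulAction.Quotient.smul_mk, QuotientGroup.eq]
  have := H.inv_mem hg
  simpa [mul_assoc] using this

end Cfsg.Agent.Lib.Struct4
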