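import Cfsg.Agent.Lib.Struct4.SylowCount

set_option autoImplicit false

universe u

namespace Cfsg.Agent.Lib.Struct4

variable {G : Type u} [Group G] [Finite G] {p : ℕ} [Fact p.Prime]

theorem exists_normalized_sylow_above {q : ℕ} [Fact q.Prime] (P : Sylow p G) (K : Subgroup G) [K.Normal]
    (hpK : ¬ p ∣ Nat.card K) (R : Subgroup G) (hR : R ≤ K) (hRq : IsPGroup q R)
    (hPR : (P : Subgroup G) ≤ Subgroup.normalizer (R : Set G)) :
    ∃ Q : Subgroup G, Q ≤ K ∧ IsPGroup q Q ∧ R ≤ Q ∧ (P : Subgroup G) ≤ Subgroup.normalizer (Q : Set G) ∧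
      ¬ q ∣ Q.relIndex K := by
  obtain ⟨Q0, hRQ0, hmax⟩ := Finite.exists_le_maximal (α := Subgroup G)
    (p := fun Q => Q ≤ K ∧ IsPGroup q Q ∧ (P : Subgroup G) ≤ Subgroup.normalizer (Q : Set G))
    (a := R) ⟨hR, hRq, hPR⟩
  obtain ⟨⟨hQK, hQq, hPQ⟩, hm⟩ := hmax
  refine ⟨Q0, hQK, hQq, hRQ0, hPQ, fun hdiv => ?_⟩
  set M := Subgroup.normalizer (Q0 : Set G)
  set S := K.subgroupOf M
  obtain ⟨Q1⟩ : Nonempty (Sylow q S) := inferInstance
  have hfr := Sylow.normalizer_sup_eq_top Q1
  set L := Subgroup.normalizer ((((Q1 : Subgroup S).map S.subtype : Subgroup M)) : Set M)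
  have hcop : ¬ p ∣ L.index := by
    intro hd
    refine hpK (hd.trans ?_)
    have e : L.relIndex S = L.index := by
      rw [← relIndex_sup_left_eq L S, hfr, Subgroup.relIndex_top_right]
    rw [← e]
    refine (Subgroup.index_dvd_card _).trans ?_
    exact Subgroup.card_comap_dvd_of_injective K M.subtype M.subtype_injective
  obtain ⟨P1⟩ : Nonempty (Sylow p L) := inferInstance
  have hP1 : ¬ p ∣ ((P1 : Subgroup L).map L.subtype).index := by
    rw [Subgroup.index_map_subtype]
    exact (Fact.out : p.Prime).not_dvd_mul P1.not_dvd_index hcop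
  obtain ⟨g, hg⟩ := MulAction.exists_smul_eq M ((P1.isPGroup'.map L.subtype).toSylow hP1) (P.subtype hPQ)
  set Q2 : Subgroup M := ((Q1 : Subgroup S).map S.subtype).map (MulAut.conj g).toMonoidHom
  have hPQ2 : ((P : Subgroup G).subgroupOf M) ≤ Subgroup.normalizer (Q2 : Set M) := by
    intro x hx
    have hx' : x ∈ ((g • ((P1.isPGroup'.map L.subtype).toSylow hP1) : Sylow p M) : Subgroup M) := by
      rw [hg]; exact hx
    rw [mem_normal_smul_sylow] at hx'
    obtain ⟨l, _, hl⟩ := (hx' : g⁻¹ * x * g ∈ (P1 : Subgroup L).map L.subtype)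
    have hxL : g⁻¹ * x * g ∈ L := hl ▸ l.2
    have hxe : x = (MulAut.conj g).toMonoidHom (g⁻¹ * x * g) := by simp [mul_assoc]
    rw [hxe]
    exact Subgroup.le_normalizer_map (MulAut.conj g).toMonoidHom ⟨_, hxL, rfl⟩
  have hQ2 : IsPGroup q Q2 := (Q1.isPGroup'.map _).map _
  have hQ2S : Q2 ≤ S := by
    rintro _ ⟨y, ⟨z, _, rfl⟩, rfl⟩
    exact (inferInstance : S.Normal).conj_mem _ z.2 g
  have hQ0S : Q0.subgroupOf M ≤ S := fun x hx => hQK hx
  have hQ0n : (Q0.subgroupOf M).Normal := Subgroup.normal_in_normalizer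
  have hQ0q : IsPGroup q (Q0.subgroupOf M) := hQq.of_equiv (Subgroup.subgroupOfEquivOfLe Subgroup.le_normalizer).symm
  have hQ2idx : ¬ q ∣ (Q2.subgroupOf S).index := by
    intro hd
    have hc : Nat.card (Q2.subgroupOf S) = Nat.card (Q1 : Subgroup S) := by
      rw [Nat.card_congr (Subgroup.subgroupOfEquivOfLe hQ2S).toEquiv,
        ← Nat.card_congr (Subgroup.equivMapOfInjective _ _ (MulAut.conj g).injective).toEquiv,
        ← Nat.card_congr (Subgroup.equivMapOfInjective _ _ S.subtype_injective).toEquiv]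
    have h1 := (Q2.subgroupOf S).card_mul_index
    rw [hc, ← (Q1 : Subgroup S).card_mul_index] at h1
    exact Q1.not_dvd_index (Nat.eq_of_mul_eq_mul_left Nat.card_pos h1 ▸ hd)
  have hQ0Q2 : Q0.subgroupOf M ≤ Q2 := by
    set S2 := (hQ2.of_equiv (Subgroup.subgroupOfEquivOfLe hQ2S).symm).toSylow hQ2idx
    have : (Q0.subgroupOf M).subgroupOf S ≤ (S2 : Subgroup S) := by
      haveI : ((Q0.subgroupOf M).subgroupOf S).Normal := inferInstance
      exact (hQ0q.of_equiv (Subgroup.subgroupOfEquivOfLe hQ0S).symm).le_sylow_of_normal S2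
    exact fun x hx => this (show (⟨x, hQ0S hx⟩ : S) ∈ _ from hx)
  have hle : Q2.map M.subtype ≤ Q0 := by
    refine hm ⟨?_, hQ2.map _, ?_⟩ ?_
    · rintro _ ⟨y, hy, rfl⟩
      exact hQ2S hy
    · intro x hx
      exact Subgroup.le_normalizer_map M.subtype ⟨⟨x, hPQ hx⟩, hPQ2 hx, rfl⟩
    · intro x hx
      exact ⟨⟨x, Subgroup.le_normalizer hx⟩, hQ0Q2 hx, rfl⟩
  have heq : Q2 = Q0.subgroupOf M := le_antisymm (fun x hx => hle ⟨x, hx, rfl⟩) hQ0Q2
  -- a Sylow subgroup of `K ⊓ M` equals `Q0`, so `Q0` is a Sylow subgroup of `K`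
  obtain ⟨Q3, hQ3⟩ := IsPGroup.exists_le_sylow (G := K) (hQq.of_equiv (Subgroup.subgroupOfEquivOfLe hQK).symm)
  have hne : Q0.subgroupOf K ≠ (Q3 : Subgroup K) := by
    intro h
    refine Q3.not_dvd_index ?_
    rw [← h]
    exact hdiv
  have hlt : Q0.subgroupOf K < (Q3 : Subgroup K) := lt_of_le_of_ne hQ3 hne
  obtain ⟨y, hy1, hy2⟩ : ∃ y : K, y ∈ (Q3 : Subgroup K) ∧ y ∉ Q0.subgroupOf K ∧
      y ∈ Subgroup.normalizer ((Q0.subgroupOf K : Subgroup K) : Set K) := by
    have := Q3.isPGroup'.isNilpotent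
    have h3 : (Q0.subgroupOf K).subgroupOf (Q3 : Subgroup K) < ⊤ := by
      rw [lt_top_iff_ne_top, Ne, Subgroup.subgroupOf_eq_top]
      exact hlt.not_ge
    obtain ⟨_, y, hy, hyn⟩ := SetLike.lt_iff_le_and_exists.1 (Group.normalizerCondition_of_isNilpotent _ h3)
    refine ⟨y, y.2, hyn, ?_⟩
    have := Subgroup.le_normalizer_map (Q3 : Subgroup K).subtype ⟨y, hy, rfl⟩
    rwa [Subgroup.map_subgroupOf_eq_of_le hQ3] at this
  have hyM : (y : G) ∈ M := by
    have := Subgroup.le_normalizer_map K.subtype ⟨y, hy2.2, rfl⟩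
    rwa [Subgroup.map_subgroupOf_eq_of_le hQK] at this
  have hY : IsPGroup q (Subgroup.zpowers (⟨y, hyM⟩ : M) ⊔ Q2 : Subgroup M) := by
    obtain ⟨k, hk⟩ := IsPGroup.iff_orderOf.1 Q3.isPGroup' ⟨y, hy1⟩
    have : IsPGroup q (Subgroup.zpowers (⟨y, hyM⟩ : M)) := by
      refine IsPGroup.of_card (n := k) ?_
      rw [Nat.card_zpowers, ← hk, Subgroup.orderOf_mk, Subgroup.orderOf_mk, Subgroup.orderOf_coe]
    rw [heq]
    exact this.to_sup_of_normal_right hQ0q
  have hYS : Subgroup.zpowers (⟨y, hyM⟩ : M) ⊔ Q2 ≤ S := sup_le (Subgroup.zpowers_le.2 y.2) hQ2S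
  have hYeq : (Subgroup.zpowers (⟨y, hyM⟩ : M) ⊔ Q2).subgroupOf S = Q2.subgroupOf S := by
    have hY' := hY.of_equiv (Subgroup.subgroupOfEquivOfLe hYS).symm
    exact ((hQ2.of_equiv (Subgroup.subgroupOfEquivOfLe hQ2S).symm).toSylow hQ2idx).is_maximal' hY'
      (fun x hx => Subgroup.mem_sup_right (S := Subgroup.zpowers (⟨y, hyM⟩ : M)) hx)
  have : (⟨(⟨y, hyM⟩ : M), y.2⟩ : S) ∈ Q2.subgroupOf S := by
    rw [← hYeq]
    exact Subgroup.mem_sup_left (T := Q2) (Subgroup.mem_zpowers _)
  rw [heq] at this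
  exact hy2.1 this

/-- For a normal `p'`-subgroup `K`, each prime-power part of `[K : N_K(P)]` is `1` mod `p`. -/
theorem relIndex_parts_modEq (P : Sylow p G) (K : Subgroup G) [K.Normal] (hpK : ¬ p ∣ Nat.card K)
    (q : ℕ) (hq : q.Prime) :
    q ^ ((Subgroup.normalizer ((P : Subgroup G) : Set G)).relIndex K).factorization q ≡ 1 [MOD p] := by
  haveI := Fact.mk hq
  set NP := Subgroup.normalizer ((P : Subgroup G) : Set G)
  set C := NP ⊓ K
  obtain ⟨R⟩ : Nonempty (Sylow q C) := inferInstance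
  set R' := (R : Subgroup C).map C.subtype
  have hR'C : R' ≤ C := Subgroup.map_subtype_le _
  have hdisj : ∀ x, x ∈ (P : Subgroup G) → x ∈ K → x = 1 := by
    intro x hxP hxK
    obtain ⟨k, hk⟩ := IsPGroup.iff_orderOf.1 P.isPGroup' ⟨x, hxP⟩
    rw [Subgroup.orderOf_mk] at hk
    by_contra hx
    refine hpK ((dvd_pow_self p ?_).trans (hk ▸ K.orderOf_dvd_natCard hxK))
    rintro rfl
    exact hx (orderOf_eq_one_iff.1 (by simpa using hk))
  have hPR : (P : Subgroup G) ≤ Subgroup.normalizer (R' : Set G) := by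
    refine le_trans ?_ (Subgroup.centralizer_le_normalizer _)
    intro x hx
    rw [Subgroup.mem_centralizer_iff]
    intro y hy
    have hyC := hR'C hy
    have h1 : y * x * y⁻¹ * x⁻¹ = 1 := by
      refine hdisj _ ?_ ?_
      · exact mul_mem ((Subgroup.mem_normalizer_iff.1 hyC.1 x).1 hx) (inv_mem hx)
      · have := (inferInstance : K.Normal).conj_mem _ (inv_mem hyC.2) x
        have := mul_mem hyC.2 this
        simpa [mul_assoc] using this
    calc y * x = (y * x * y⁻¹ * x⁻¹) * (x * y) := by group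
      _ = x * y := by rw [h1, one_mul]
  obtain ⟨Q, hQK, hQq, hRQ, hPQ, hQidx⟩ :=
    exists_normalized_sylow_above P K hpK R' (hR'C.trans inf_le_right) (R.isPGroup'.map _) hPR
  have hQmod : NP.relIndex Q ≡ 1 [MOD p] := by
    have h1 : NP.relIndex Q = Nat.card (Sylow p ((P : Subgroup G) ⊔ Q : Subgroup G)) := by
      rw [card_sylow_of_le P _ le_sup_left]
      have e := Subgroup.relIndex_mul_relIndex (NP ⊓ ((P : Subgroup G) ⊔ Q)) (NP ⊓ ((P : Subgroup G) ⊔ Q))
        ((P : Subgroup G) ⊔ Q) le_rfl inf_le_right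
      have hle : (P : Subgroup G) ≤ NP ⊓ ((P : Subgroup G) ⊔ Q) := le_inf Subgroup.le_normalizer le_sup_left
      have hn : NP ⊓ ((P : Subgroup G) ⊔ Q) ≤ Subgroup.normalizer (Q : Set G) :=
        inf_le_right.trans (sup_le hPQ Subgroup.le_normalizer)
      have h2 := relIndex_sup_left_of_le_normalizer _ Q hn
      have hsup : (NP ⊓ ((P : Subgroup G) ⊔ Q)) ⊔ Q = (P : Subgroup G) ⊔ Q :=
        le_antisymm (sup_le inf_le_right le_sup_right) (sup_le (le_sup_of_le_left hle) le_sup_right)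
      rw [hsup, Subgroup.inf_relIndex_right] at h2
      rw [h2, ← Subgroup.inf_relIndex_right (NP ⊓ ((P : Subgroup G) ⊔ Q)) Q, inf_assoc,
        inf_eq_right.2 (le_sup_right : Q ≤ (P : Subgroup G) ⊔ Q), Subgroup.inf_relIndex_right]
    rw [h1]
    exact card_sylow_modEq_one p _
  have hQC : Q ⊓ C = R' := by
    have hX : (Q ⊓ C).subgroupOf C = (R : Subgroup C) := by
      refine R.is_maximal' ((hQq.to_le inf_le_left).of_equiv (Subgroup.subgroupOfEquivOfLe inf_le_right).symm) ?_
      intro x hx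
      exact ⟨hRQ ⟨x, hx, rfl⟩, x.2⟩
    rw [← Subgroup.map_subgroupOf_eq_of_le (inf_le_right : Q ⊓ C ≤ C), hX]
  obtain ⟨a, ha⟩ := hQq.index (H := C.subgroupOf Q)
  have e1 : C.relIndex K * R'.relIndex C = Q.relIndex K * NP.relIndex Q := by
    rw [mul_comm, Subgroup.relIndex_mul_relIndex _ _ _ hR'C inf_le_right, mul_comm (Q.relIndex K)]
    have hQNP : NP.relIndex Q = R'.relIndex Q := by
      rw [← hQC, Subgroup.inf_relIndex_left, ← Subgroup.inf_relIndex_right C Q,
        ← Subgroup.inf_relIndex_right NP Q]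
      congr 1
      simp only [C, inf_assoc, inf_eq_right.2 hQK]
    rw [hQNP, Subgroup.relIndex_mul_relIndex _ _ _ hRQ hQK]
  have hRd : ¬ q ∣ R'.relIndex C := by
    show ¬ q ∣ (R'.subgroupOf C).index
    rw [show R'.subgroupOf C = (R : Subgroup C) from Subgroup.comap_map_eq_self_of_injective C.subtype_injective _]
    exact R.not_dvd_index
  have hne : ∀ (A B : Subgroup G), A.relIndex B ≠ 0 := fun A B => Subgroup.index_ne_zero_of_finite
  have hv := congrArg (fun n => n.factorization q) e1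
  simp only [Nat.factorization_mul (hne _ _) (hne _ _), Finsupp.add_apply] at hv
  rw [Nat.factorization_eq_zero_of_not_dvd hRd, Nat.factorization_eq_zero_of_not_dvd hQidx,
    add_zero, zero_add, Subgroup.inf_relIndex_right] at hv
  have hQpow : NP.relIndex Q = q ^ a := by
    rw [← ha]
    show _ = C.relIndex Q
    rw [← Subgroup.inf_relIndex_right C Q, ← Subgroup.inf_relIndex_right NP Q]
    congr 1
    simp only [C, inf_assoc, inf_eq_right.2 hQK]
  rw [hv, hQpow, hq.factorization_pow, Finsupp.single_eq_same, ← hQpow]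
  exact hQmod

/-- Induction principle for Sylow numbers. -/
theorem card_sylow_induction (p : ℕ) [Fact p.Prime] (C : ∀ (H : Type u) [Group H] [Finite H], Prop)
    (hsub : ∀ (H : Type u) [Group H] [Finite H], C H → ∀ K : Subgroup H, C K)
    (hquo : ∀ (H : Type u) [Group H] [Finite H], C H → ∀ (K : Subgroup H) [K.Normal], C (H ⧸ K))
    (Φ : ℕ → Prop) (hmul : ∀ a b, Φ a → Φ b → Φ (a * b))
    (hparts : ∀ n, n ≠ 0 → (∀ q, q.Prime → q ^ n.factorization q ≡ 1 [MOD p]) → Φ n)
    (hsimple : ∀ (H : Type u) [Group H] [Finite H], C H → IsSimpleGroup H → Φ (Nat.card (Sylow p H)))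
    (H : Type u) [Group H] [Finite H] (hH : C H) : Φ (Nat.card (Sylow p H)) := by
  suffices ∀ n : ℕ, ∀ (H : Type u) [Group H] [Finite H], C H → Nat.card H = n → Φ (Nat.card (Sylow p H)) from
    this _ H hH rfl
  intro n
  induction n using Nat.strong_induction_on with
  | _ n ih =>
    intro H _ _ hH hn
    subst hn
    have h1Φ : Φ 1 := hparts 1 one_ne_zero (fun q _ => by simp [Nat.ModEq.refl])
    by_cases hs : IsSimpleGroup H
    · exact hsimple H hH hs
    rcases subsingleton_or_nontrivial H with hsub' | hnt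
    · have : Subsingleton (Sylow p H) := ⟨fun A B => Sylow.ext (Subsingleton.elim _ _)⟩
      rw [Nat.card_of_subsingleton (default : Sylow p H)]
      exact h1Φ
    obtain ⟨K, hK, hKb, hKt⟩ : ∃ K : Subgroup H, K.Normal ∧ K ≠ ⊥ ∧ K ≠ ⊤ := by
      by_contra hc
      push Not at hc
      exact hs ⟨fun K hK => or_iff_not_imp_left.2 (hc K hK)⟩
    haveI := hK
    obtain ⟨P⟩ : Nonempty (Sylow p H) := inferInstance
    set N := ((P : Subgroup H) ⊔ K) ⊓ Subgroup.normalizer (((P : Subgroup H) ⊓ K : Subgroup H) : Set H) with hNdef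
    haveI hTn : (((P : Subgroup H) ⊓ K).subgroupOf N).Normal :=
      Subgroup.normal_subgroupOf_of_le_normalizer inf_le_right
    rw [card_sylow_formula P K N hNdef]
    have hlt1 : Nat.card (H ⧸ K) < Nat.card H := by
      rw [← K.card_mul_index]
      exact lt_mul_of_one_lt_left (Nat.pos_of_ne_zero Subgroup.index_ne_zero_of_finite)
        ((Subgroup.one_lt_card_iff_ne_bot K).2 hKb)
    have hlt2 : Nat.card K < Nat.card H := by
      rw [← K.card_mul_index]
      exact lt_mul_of_one_lt_right Nat.card_pos (K.one_lt_index_of_ne_top hKt)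
    refine hmul _ _ (hmul _ _ (ih _ hlt1 _ (hquo H hH K) rfl) (ih _ hlt2 _ (hsub H hH K) rfl)) ?_
    by_cases hlt3 : Nat.card (N ⧸ ((P : Subgroup H) ⊓ K).subgroupOf N) < Nat.card H
    · exact ih _ hlt3 _ (hquo _ (hsub H hH N) _) rfl
    · have h1 : Nat.card (N ⧸ ((P : Subgroup H) ⊓ K).subgroupOf N) * Nat.card ((P : Subgroup H) ⊓ K : Subgroup H)
          ≤ Nat.card H := by
        refine le_trans (le_of_eq ?_) (Subgroup.card_le_card_group N)
        rw [mul_comm, ← (((P : Subgroup H) ⊓ K).subgroupOf N).card_mul_index,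
          Nat.card_congr (Subgroup.subgroupOfEquivOfLe (le_inf (inf_le_left.trans le_sup_left)
            Subgroup.le_normalizer : (P : Subgroup H) ⊓ K ≤ N)).toEquiv]
        rfl
      have hT : (P : Subgroup H) ⊓ K = ⊥ := by
        rw [← Subgroup.card_eq_one]
        have hpos : 0 < Nat.card H := Nat.card_pos
        have hcp : 0 < Nat.card ((P : Subgroup H) ⊓ K : Subgroup H) := Nat.card_pos
        by_contra hne
        have : 2 ≤ Nat.card ((P : Subgroup H) ⊓ K : Subgroup H) := by omega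
        have := Nat.mul_le_mul_left (Nat.card (N ⧸ ((P : Subgroup H) ⊓ K).subgroupOf N)) this
        omega
      have hNU : N = (P : Subgroup H) ⊔ K := by
        rw [hNdef, inf_eq_left, hT]
        intro x _
        rw [Subgroup.mem_normalizer_iff]
        simp
      have hequiv : Nat.card (Sylow p (N ⧸ ((P : Subgroup H) ⊓ K).subgroupOf N)) =
          (Subgroup.normalizer ((P : Subgroup H) : Set H)).relIndex K := by
        have hPN : (P : Subgroup H) ≤ N := hNU ▸ le_sup_left
        have h := card_sylow_quotient (G := N) (P.subtype hPN) (((P : Subgroup H) ⊓ K).subgroupOf N)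
        have hTP : ((P : Subgroup H) ⊓ K).subgroupOf N ≤ (P : Subgroup H).subgroupOf N := fun x hx => hx.1
        rw [Sylow.coe_subtype, card_sylow_of_le P N hPN, sup_eq_left.2 hTP,
          Subgroup.relIndex_eq_one.2 Subgroup.le_normalizer, mul_one] at h
        rw [← h, hNU, ← Subgroup.inf_relIndex_right]
        set X := Subgroup.normalizer ((P : Subgroup H) : Set H) ⊓ ((P : Subgroup H) ⊔ K)
        have h2 := relIndex_sup_left_eq X K
        have hsup : X ⊔ K = (P : Subgroup H) ⊔ K := le_antisymm (sup_le inf_le_right le_sup_right)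
          (sup_le (le_sup_of_le_left (le_inf Subgroup.le_normalizer le_sup_left)) le_sup_right)
        rw [hsup] at h2
        rw [h2, ← Subgroup.inf_relIndex_right X K, inf_assoc,
          inf_eq_right.2 (le_sup_right : K ≤ (P : Subgroup H) ⊔ K), Subgroup.inf_relIndex_right]
      rw [hequiv]
      refine hparts _ Subgroup.index_ne_zero_of_finite (relIndex_parts_modEq P K ?_)
      intro hpK
      have := inf_normal_sylow P K
      rw [hT, Subgroup.relIndex_bot_left] at this
      exact this hpK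

end Cfsg.Agent.Lib.Struct4
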