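import Mathlib

/-!
Fixed point free modules of a finite group in every characteristic prime to its order,
obtained from one such module.
-/

set_option autoImplicit false

open MonoidAlgebra

namespace Cfsg.Agent.Struct4

variable (k : Type) [CommRing k] {H : Type} [Group H]

/-- The sum of the powers of `c`. -/
noncomputable def normEl (c : H) : MonoidAlgebra k H :=
  ∑ i ∈ Finset.range (orderOf c), of k H (c ^ i)

theorem of_mul_normEl (c : H) : of k H c * normEl k c = normEl k c := by
  have h := Finset.sum_range_succ' (fun i => of k H (c ^ i)) (orderOf c)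
  rw [Finset.sum_range_succ] at h
  simp only [pow_orderOf_eq_one, pow_zero, pow_succ', map_mul] at h
  rw [normEl, Finset.mul_sum]
  exact (add_right_cancel h).symm

variable (H) in
/-- The ideal killing exactly the fixed point free modules. -/
noncomputable def fpfIdeal : Ideal (MonoidAlgebra k H) :=
  Ideal.span {x | ∃ c g : H, c ≠ 1 ∧ x = normEl k c * of k H g}

theorem normEl_mul_mem {c : H} (hc : c ≠ 1) (y : MonoidAlgebra k H) :
    normEl k c * y ∈ fpfIdeal k H := by
  induction y using MonoidAlgebra.induction_on with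
  | of g => exact Ideal.subset_span ⟨c, g, hc, rfl⟩
  | add a b ha hb => rw [mul_add]; exact add_mem ha hb
  | smul r a ha =>
    rw [mul_smul_comm, ← smul_one_mul r (normEl k c * a)]
    exact Ideal.mul_mem_left _ _ ha

theorem mul_mem_right_fpfIdeal {x : MonoidAlgebra k H} (hx : x ∈ fpfIdeal k H)
    (y : MonoidAlgebra k H) : x * y ∈ fpfIdeal k H := by
  refine Submodule.span_induction ?_ ?_ ?_ ?_ hx
  · rintro _ ⟨c, g, hc, rfl⟩
    rw [mul_assoc]
    exact normEl_mul_mem k hc _
  · rw [zero_mul]; exact zero_mem _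
  · intro a b _ _ ha hb; rw [add_mul]; exact add_mem ha hb
  · intro a b _ hb
    rw [smul_eq_mul, mul_assoc]
    exact Ideal.mul_mem_left _ _ hb

/-- A ring map killing all norm elements shows that the ideal is proper. -/
theorem one_notMem_of_ringHom {R : Type*} [Ring R] [Nontrivial R] (Φ : MonoidAlgebra k H →+* R)
    (hΦ : ∀ c : H, c ≠ 1 → Φ (normEl k c) = 0) : (1 : MonoidAlgebra k H) ∉ fpfIdeal k H := by
  intro h
  have : ∀ x ∈ fpfIdeal k H, Φ x = 0 := fun x hx => by
    refine Submodule.span_induction ?_ (map_zero Φ) ?_ ?_ hx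
    · rintro _ ⟨c, g, hc, rfl⟩
      rw [map_mul, hΦ c hc, zero_mul]
    · intro a b _ _ ha hb; rw [map_add, ha, hb, add_zero]
    · intro a b _ hb; rw [smul_eq_mul, map_mul, hb, mul_zero]
  exact one_ne_zero ((map_one Φ).symm.trans (this 1 h))

variable {k}

theorem map_normEl {l : Type} [CommRing l] (f : k →+* l) (c : H) :
    mapRingHom H f (normEl k c) = normEl l c := by
  rw [normEl, normEl, map_sum]
  simp [of_apply]

theorem map_fpfIdeal_le {l : Type} [CommRing l] (f : k →+* l) {x : MonoidAlgebra k H}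
    (hx : x ∈ fpfIdeal k H) : mapRingHom H f x ∈ fpfIdeal l H := by
  refine Submodule.span_induction ?_ ?_ ?_ ?_ hx
  · rintro _ ⟨c, g, hc, rfl⟩
    rw [map_mul, map_normEl]
    exact normEl_mul_mem l hc _
  · rw [map_zero]; exact zero_mem _
  · intro a b _ _ ha hb; rw [map_add]; exact add_mem ha hb
  · intro a b _ hb; rw [smul_eq_mul, map_mul]; exact Ideal.mul_mem_left _ _ hb

theorem exists_mem_fpfIdeal_map {l : Type} [CommRing l] (f : k →+* l) (hf : Function.Surjective f)
    {x : MonoidAlgebra l H} (hx : x ∈ fpfIdeal l H) :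
    ∃ y ∈ fpfIdeal k H, mapRingHom H f y = x := by
  have hs : Function.Surjective (mapRingHom H f) := fun z => by
    induction z using MonoidAlgebra.induction_on with
    | of g => exact ⟨of k H g, by simp [of_apply]⟩
    | add a b ha hb =>
      obtain ⟨a', rfl⟩ := ha
      obtain ⟨b', rfl⟩ := hb
      exact ⟨a' + b', map_add _ _ _⟩
    | smul r a ha =>
      obtain ⟨a', rfl⟩ := ha
      obtain ⟨r', rfl⟩ := hf r
      refine ⟨single 1 r' * a', ?_⟩
      rw [map_mul, mapRingHom_single]
      ext g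
      simp [coeff_single_one_mul]
  refine Submodule.span_induction ?_ ?_ ?_ ?_ hx
  · rintro _ ⟨c, g, hc, rfl⟩
    exact ⟨normEl k c * of k H g, normEl_mul_mem k hc _, by rw [map_mul, map_normEl]; simp [of_apply]⟩
  · exact ⟨0, zero_mem _, map_zero _⟩
  · rintro a b - - ⟨a', ha, rfl⟩ ⟨b', hb, rfl⟩
    exact ⟨a' + b', add_mem ha hb, map_add _ _ _⟩
  · rintro a b - ⟨b', hb, rfl⟩
    obtain ⟨a', rfl⟩ := hs a
    exact ⟨a' * b', Ideal.mul_mem_left _ _ hb, map_mul _ _ _⟩

omit [Group H] in
theorem finite_algebra (k : Type) [CommRing k] [Finite k] [Finite H] : Finite (MonoidAlgebra k H) :=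
  Finite.of_injective (fun x : MonoidAlgebra k H => (fun g => x.coeff g))
    fun _ _ h => MonoidAlgebra.ext (Finsupp.ext (congrFun h))

variable [Finite H]

/-- A fixed point free module of exponent `p` makes the ideal mod `p` proper. -/
theorem one_notMem_of_fpf {p : ℕ} [Fact p.Prime] {V : Type} [AddCommGroup V] [Nontrivial V]
    (hp : ∀ v : V, p • v = 0) (ρ : H →* AddMonoid.End V)
    (hρ : ∀ c, c ≠ 1 → ∀ v, ρ c v = v → v = 0) :
    (1 : MonoidAlgebra (ZMod p) H) ∉ fpfIdeal (ZMod p) H := by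
  let _ : Module (ZMod p) V := AddCommGroup.zmodModule hp
  have : Nontrivial (AddMonoid.End V) := by
    obtain ⟨v, hv⟩ := exists_ne (0 : V)
    exact ⟨⟨0, 1, fun h => hv (DFunLike.congr_fun h.symm v)⟩⟩
  let Φ : MonoidAlgebra (ZMod p) H →+* AddMonoid.End V :=
    liftNCRingHom (Module.toAddMonoidEnd (ZMod p) V) ρ fun a g =>
      AddMonoidHom.ext fun v => (ZMod.map_smul (ρ g) a v).symm
  have hof : ∀ g, Φ (of (ZMod p) H g) = ρ g := fun g => by
    rw [of_apply]
    refine (liftNC_single _ _ g (1 : ZMod p)).trans ?_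
    simp
  refine one_notMem_of_ringHom (ZMod p) Φ fun c hc => AddMonoidHom.ext fun v => ?_
  refine hρ c hc _ ?_
  have h := congrArg Φ (of_mul_normEl (ZMod p) c)
  rw [map_mul, hof] at h
  exact DFunLike.congr_fun h v

theorem exists_eq_smul_of_map_zero (n : ℕ) {x : MonoidAlgebra ℤ H}
    (hx : mapRingHom H (Int.castRingHom (ZMod n)) x = 0) : ∃ s, x = (n : ℤ) • s := by
  refine ⟨ofCoeff (Finsupp.mapRange (fun a : ℤ => a / n) (by simp) x.coeff), ?_⟩
  ext g
  have h := congrArg (fun z : MonoidAlgebra (ZMod n) H => z.coeff g) hx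
  simp only [coeff_mapRingHom, Int.coe_castRingHom, coeff_zero, Finsupp.zero_apply] at h
  rw [ZMod.intCast_zmod_eq_zero_iff_dvd] at h
  simp only [coeff_smul, Finsupp.smul_apply, coeff_ofCoeff, Finsupp.mapRange_apply, smul_eq_mul]
  exact (Int.mul_ediv_cancel' h).symm

omit [Group H] [Finite H] in
theorem exists_idempotent_pow {M : Type*} [Monoid M] [Finite M] (x : M) :
    ∃ n, 0 < n ∧ x ^ n * x ^ n = x ^ n := by
  obtain ⟨a, b, hne, hab⟩ := Finite.exists_ne_map_eq_of_infinite fun n : ℕ => x ^ n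
  wlog hlt : a < b generalizing a b
  · exact this b a hne.symm hab.symm (by omega)
  obtain ⟨d, rfl⟩ := Nat.exists_eq_add_of_lt hlt
  have hs : ∀ m, a ≤ m → x ^ (m + (d + 1)) = x ^ m := by
    intro m hm
    obtain ⟨e, rfl⟩ := Nat.exists_eq_add_of_le hm
    rw [show a + e + (d + 1) = a + d + 1 + e by omega, pow_add, ← hab, ← pow_add]
  have hj : ∀ j m, a ≤ m → x ^ (m + j * (d + 1)) = x ^ m := by
    intro j
    induction j with
    | zero => simp
    | succ j ih =>
      intro m hm
      rw [Nat.succ_mul, ← add_assoc, hs _ (le_trans hm (Nat.le_add_right _ _)), ih m hm]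
  refine ⟨(a + 1) * (d + 1), by positivity, ?_⟩
  rw [← pow_add, hj (a + 1) _ (by nlinarith)]

/-- A proper ideal mod a prime not dividing the order contains no non-zero integer. -/
theorem intCast_notMem {p : ℕ} [Fact p.Prime] (hpH : ¬ p ∣ Nat.card H)
    (h1 : (1 : MonoidAlgebra (ZMod p) H) ∉ fpfIdeal (ZMod p) H) {z : ℤ} (hz : z ≠ 0) :
    (z : MonoidAlgebra ℤ H) ∉ fpfIdeal ℤ H := by
  intro hmem
  have hp : p.Prime := Fact.out
  set I := fpfIdeal (ZMod p) H with hI
  have : NeZero (Nat.card H : ZMod p) :=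
    ⟨fun h => hpH ((ZMod.natCast_eq_zero_iff _ _).1 h)⟩
  obtain ⟨W, hW⟩ := MonoidAlgebra.Submodule.exists_isCompl (k := ZMod p) (G := H) I
  obtain ⟨i, hi, e, he, hie⟩ := Submodule.mem_sup.1
    (show (1 : MonoidAlgebra (ZMod p) H) ∈ I ⊔ W by rw [hW.sup_eq_top]; trivial)
  have hIW : ∀ y, y ∈ I → y ∈ W → y = 0 := fun y h h' => Submodule.disjoint_def.1 hW.disjoint y h h'
  have heI : ∀ y ∈ I, y * e = 0 := fun y hy =>
    hIW _ (mul_mem_right_fpfIdeal _ hy e) (by simpa using W.smul_mem y he)
  have hee : e * e = e := by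
    have h : i * e + e * e = e := by rw [← add_mul, hie, one_mul]
    rwa [heI i hi, zero_add] at h
  have he0 : e ≠ 0 := fun h => h1 (by rw [h, add_zero] at hie; exact hie ▸ hi)
  obtain ⟨g, hg⟩ : ∃ g, e.coeff g ≠ 0 := by
    by_contra h
    push Not at h
    exact he0 (MonoidAlgebra.ext <| Finsupp.ext fun g => by simpa using h g)
  set k := z.natAbs + 1 with hk
  have : NeZero (p ^ k) := ⟨pow_ne_zero _ hp.ne_zero⟩
  let π : MonoidAlgebra (ZMod (p ^ k)) H →+* MonoidAlgebra (ZMod p) H :=
    mapRingHom H (ZMod.castHom (dvd_pow_self p (Nat.succ_ne_zero _)) (ZMod p))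
  have hfin : Finite (MonoidAlgebra (ZMod (p ^ k)) H) := finite_algebra _
  obtain ⟨x, hx⟩ : ∃ x, π x = e :=
    ⟨ofCoeff (Finsupp.mapRange (fun a : ZMod p => (a.val : ZMod (p ^ k))) (by simp) e.coeff),
      MonoidAlgebra.ext <| Finsupp.ext fun g => by simp [π]⟩
  obtain ⟨n, hn, hidem⟩ := exists_idempotent_pow x
  set e' := x ^ n with he'
  have hπe : π e' = e := by
    rw [he', map_pow, hx]
    exact IsIdempotentElem.pow_eq (n := n) hee hn.ne'
  have key : ∀ c : H, c ≠ 1 → ∀ j r, p ^ (k - j) • (normEl (ZMod (p ^ k)) c * r * e') = 0 := by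
    intro c hc j
    induction j with
    | zero =>
      intro r
      rw [Nat.sub_zero, ← Nat.cast_smul_eq_nsmul (ZMod (p ^ k)), ZMod.natCast_self, zero_smul]
    | succ j ih =>
      intro r
      rcases le_or_gt k j with hkj | hkj
      · rw [show k - (j + 1) = k - j by omega]; exact ih r
      set u := normEl (ZMod (p ^ k)) c * r * e' with hu
      have hπu : π u = 0 := by
        rw [hu, map_mul, map_mul, map_normEl, hπe]
        exact heI _ (normEl_mul_mem _ hc _)
      have hdiv : ∀ g, (p : ℕ) ∣ (u.coeff g).val := fun g => by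
        have h := congrArg (fun w : MonoidAlgebra (ZMod p) H => w.coeff g) hπu
        simp only [π, coeff_mapRingHom, coeff_zero, Finsupp.zero_apply, ZMod.castHom_apply,
          ZMod.cast_eq_val] at h
        exact (ZMod.natCast_eq_zero_iff _ _).1 h
      set s : MonoidAlgebra (ZMod (p ^ k)) H :=
        ofCoeff (Finsupp.mapRange (fun a : ZMod (p ^ k) => ((a.val / p : ℕ) : ZMod (p ^ k))) (by simp)
          u.coeff) with hs
      have hsu : u = p • s := MonoidAlgebra.ext <| Finsupp.ext fun g => by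
        rw [coeff_smul, Finsupp.smul_apply, hs]
        simp only [coeff_ofCoeff, Finsupp.mapRange_apply, nsmul_eq_mul, ← Nat.cast_mul]
        rw [Nat.mul_div_cancel' (hdiv g), ZMod.natCast_zmod_val]
      have hN : normEl (ZMod (p ^ k)) c * normEl (ZMod (p ^ k)) c =
          orderOf c • normEl (ZMod (p ^ k)) c := by
        have hpw : ∀ i : ℕ, of (ZMod (p ^ k)) H (c ^ i) * normEl (ZMod (p ^ k)) c =
            normEl (ZMod (p ^ k)) c := by
          intro i
          induction i with
          | zero => rw [pow_zero, map_one, one_mul]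
          | succ i ih' =>
            rw [pow_succ c i, map_mul (of (ZMod (p ^ k)) H), mul_assoc, of_mul_normEl, ih']
        conv_lhs => arg 1; rw [normEl]
        rw [Finset.sum_mul, Finset.sum_congr rfl fun i _ => hpw i, Finset.sum_const, Finset.card_range]
      have hue : u * e' = u := by rw [hu, mul_assoc _ e' e', hidem]
      have hmu : orderOf c • u = p • (normEl (ZMod (p ^ k)) c * s * e') := by
        calc orderOf c • u = normEl (ZMod (p ^ k)) c * u * e' := by
              rw [mul_assoc, hue, hu, ← mul_assoc, ← mul_assoc, hN, smul_mul_assoc, smul_mul_assoc]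
          _ = p • (normEl (ZMod (p ^ k)) c * s * e') := by
              rw [hsu, mul_smul_comm, smul_mul_assoc]
      have h0 : orderOf c • (p ^ (k - (j + 1)) • u) = 0 := by
        rw [smul_comm, hmu, ← mul_smul, ← pow_succ, show k - (j + 1) + 1 = k - j by omega]
        exact ih s
      have hcop : (orderOf c).Coprime (p ^ k) :=
        ((hp.coprime_iff_not_dvd.2 fun h => hpH (h.trans (orderOf_dvd_natCard c))).symm).pow_right _
      have hunit : IsUnit ((orderOf c : ℕ) : ZMod (p ^ k)) := by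
        rw [← ZMod.coe_unitOfCoprime _ hcop]; exact Units.isUnit _
      rw [← Nat.cast_smul_eq_nsmul (ZMod (p ^ k)) (orderOf c)] at h0
      exact hunit.smul_eq_zero.1 h0
  have hkill : ∀ y ∈ fpfIdeal (ZMod (p ^ k)) H, y * e' = 0 := fun y hy => by
    refine Submodule.span_induction ?_ (zero_mul _) ?_ ?_ hy
    · rintro _ ⟨c, g', hc, rfl⟩
      simpa using key c hc k (of _ H g')
    · intro a b _ _ ha hb; rw [add_mul, ha, hb, add_zero]
    · intro a b _ hb; rw [smul_eq_mul, mul_assoc, hb, mul_zero]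
  have h2 := hkill _ (map_fpfIdeal_le (Int.castRingHom (ZMod (p ^ k))) hmem)
  rw [map_intCast, ← zsmul_eq_mul, ← Int.cast_smul_eq_zsmul (ZMod (p ^ k))] at h2
  have hu : IsUnit (e'.coeff g) := by
    have hne : (ZMod.castHom (dvd_pow_self p (Nat.succ_ne_zero _)) (ZMod p)) (e'.coeff g) ≠ 0 := by
      rw [← coeff_mapRingHom]
      exact hπe.symm ▸ hg
    rw [← ZMod.natCast_zmod_val (e'.coeff g)] at hne ⊢
    rw [map_natCast, ne_eq, ZMod.natCast_eq_zero_iff, ← hp.coprime_iff_not_dvd] at hne
    rw [← ZMod.coe_unitOfCoprime _ (hne.symm.pow_right k)]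
    exact Units.isUnit _
  have h3 : (z : ZMod (p ^ k)) = 0 := by
    have := congrArg (fun w : MonoidAlgebra (ZMod (p ^ k)) H => w.coeff g) h2
    simp only [coeff_smul, Finsupp.smul_apply, coeff_zero, Finsupp.zero_apply, smul_eq_mul] at this
    exact hu.mul_left_eq_zero.1 this
  rw [ZMod.intCast_zmod_eq_zero_iff_dvd] at h3
  have h4 := Int.natAbs_dvd_natAbs.2 h3
  rw [Int.natAbs_natCast] at h4
  have h5 := Nat.le_of_dvd (Int.natAbs_pos.2 hz) h4
  have h6 : k < p ^ k := Nat.lt_pow_self hp.one_lt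
  omega

/-- Without non-zero integers the ideal stays proper mod every prime. -/
theorem one_notMem_of_int {q : ℕ} (hq : 1 < q)
    (h : ∀ z : ℤ, z ≠ 0 → (z : MonoidAlgebra ℤ H) ∉ fpfIdeal ℤ H) :
    (1 : MonoidAlgebra (ZMod q) H) ∉ fpfIdeal (ZMod q) H := by
  intro h1
  obtain ⟨y, hy, hy1⟩ := exists_mem_fpfIdeal_map (Int.castRingHom (ZMod q))
    (ZMod.intCast_surjective) h1
  obtain ⟨s, hs⟩ := exists_eq_smul_of_map_zero q (x := 1 - y) (by rw [map_sub, map_one, hy1, sub_self])
  set M : Submodule ℤ (MonoidAlgebra ℤ H) := (fpfIdeal ℤ H).restrictScalars ℤ with hM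
  have hfg : (⊤ : Submodule ℤ (MonoidAlgebra ℤ H ⧸ M)).FG := by
    have : Module.Finite ℤ (MonoidAlgebra ℤ H) := inferInstance
    exact Module.Finite.fg_top
  have hle : (⊤ : Submodule ℤ (MonoidAlgebra ℤ H ⧸ M)) ≤
      Ideal.span {(q : ℤ)} • (⊤ : Submodule ℤ (MonoidAlgebra ℤ H ⧸ M)) := by
    rintro t -
    obtain ⟨x, rfl⟩ := Submodule.Quotient.mk_surjective M t
    have he : Submodule.Quotient.mk (p := M) x = (q : ℤ) • Submodule.Quotient.mk (x * s) := by
      rw [← Submodule.Quotient.mk_smul, Submodule.Quotient.eq, ← mul_smul_comm, ← hs]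
      show x - x * (1 - y) ∈ fpfIdeal ℤ H
      rw [mul_sub, mul_one, sub_sub_cancel]
      exact Ideal.mul_mem_left _ _ hy
    rw [he]
    exact Submodule.smul_mem_smul (Ideal.mem_span_singleton_self _) trivial
  obtain ⟨r, hr, hr0⟩ :=
    Submodule.exists_sub_one_mem_and_smul_eq_zero_of_fg_of_le_smul _ _ hfg hle
  have hrne : r ≠ 0 := by
    rintro rfl
    rw [zero_sub, Ideal.neg_mem_iff, Ideal.mem_span_singleton] at hr
    have := Int.le_of_dvd one_pos hr
    omega
  refine h r hrne ?_
  have h2 := hr0 (Submodule.Quotient.mk 1) trivial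
  rw [← Submodule.Quotient.mk_smul, Submodule.Quotient.mk_eq_zero] at h2
  rw [zsmul_eq_mul, mul_one] at h2
  exact h2

/-- A fixed point free module in characteristic `q`. -/
theorem exists_fpf_module {q : ℕ} [Fact q.Prime] (hqH : ¬ q ∣ Nat.card H)
    (h1 : (1 : MonoidAlgebra (ZMod q) H) ∉ fpfIdeal (ZMod q) H) :
    ∃ (T : Type) (_ : AddCommGroup T) (_ : Finite T) (_ : Nontrivial T) (ρ : H →* AddMonoid.End T),
      (∀ t : T, q • t = 0) ∧ ∀ c, c ≠ 1 → ∀ t, ρ c t = t → t = 0 := by
  have hq : q.Prime := Fact.out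
  let I := fpfIdeal (ZMod q) H
  have : Finite (MonoidAlgebra (ZMod q) H) := finite_algebra _
  have : Finite (MonoidAlgebra (ZMod q) H ⧸ I) := Quotient.finite _
  have : Nontrivial (MonoidAlgebra (ZMod q) H ⧸ I) :=
    Submodule.Quotient.nontrivial_iff.2 fun h => h1 (by rw [show fpfIdeal (ZMod q) H = ⊤ from h]; trivial)
  let ρ : H →* AddMonoid.End (MonoidAlgebra (ZMod q) H ⧸ I) :=
    (DistribMulAction.toAddMonoidEnd _ _).comp (of (ZMod q) H)
  have htors : ∀ t : MonoidAlgebra (ZMod q) H ⧸ I, q • t = 0 := fun t => by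
    obtain ⟨x, rfl⟩ := Submodule.Quotient.mk_surjective I t
    rw [← Submodule.Quotient.mk_smul, ← Nat.cast_smul_eq_nsmul (ZMod q), ZMod.natCast_self,
      zero_smul, Submodule.Quotient.mk_zero]
  refine ⟨_, inferInstance, inferInstance, inferInstance, ρ, htors, fun c hc t ht => ?_⟩
  have hfix : ∀ i : ℕ, of (ZMod q) H (c ^ i) • t = t := by
    intro i
    induction i with
    | zero => rw [pow_zero, map_one, one_smul]
    | succ i ih =>
      rw [pow_succ, map_mul, mul_smul]
      exact (congrArg (fun u => of (ZMod q) H (c ^ i) • u) ht).trans ih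
  have hsum : normEl (ZMod q) c • t = orderOf c • t := by
    rw [normEl, Finset.sum_smul, Finset.sum_congr rfl fun i _ => hfix i, Finset.sum_const,
      Finset.card_range]
  have hzero : normEl (ZMod q) c • t = 0 := by
    obtain ⟨x, rfl⟩ := Submodule.Quotient.mk_surjective I t
    rw [← Submodule.Quotient.mk_smul, Submodule.Quotient.mk_eq_zero]
    exact normEl_mul_mem _ hc x
  rw [hsum] at hzero
  have hcop : (orderOf c).Coprime q :=
    (hq.coprime_iff_not_dvd.2 fun h => hqH (h.trans (orderOf_dvd_natCard c))).symm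
  have h2 : addOrderOf t ∣ Nat.gcd (orderOf c) q :=
    Nat.dvd_gcd (addOrderOf_dvd_of_nsmul_eq_zero hzero) (addOrderOf_dvd_of_nsmul_eq_zero (htors t))
  rw [hcop, Nat.dvd_one] at h2
  exact AddMonoid.addOrderOf_eq_one_iff.1 h2

end Cfsg.Agent.Struct4
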