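import Mathlib
import Cfsg.Agent.S0039
import Cfsg.Agent.Lib.FPF.Frobenius
import Cfsg.Agent.Lib.Hall.Frobenius

/-! Constructions of Frobenius complements from fixed point free actions. -/

set_option autoImplicit false

open Cfsg

namespace Cfsg.Agent.Struct4

/-- A group occurs as a Frobenius complement of some finite group. -/
def IsFC (C : Type*) [Group C] : Prop :=
  ∃ (L : Type) (_ : Group L) (_ : Finite L) (H : Subgroup L),
    Cfsg.IsFrobeniusComplement H ∧ Nonempty (C ≃* H)

theorem exists_type0 (C : Type*) [Group C] [Finite C] :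
    ∃ (D : Type) (_ : Group D) (_ : Finite D), Nonempty (C ≃* D) := by
  have : Finite (Shrink.{0} C) := Finite.of_equiv C (equivShrink.{0} C)
  exact ⟨Shrink.{0} C, inferInstance, inferInstance, ⟨(Shrink.mulEquiv.{0} (α := C)).symm⟩⟩

theorem IsFC.of_mulEquiv {C D : Type*} [Group C] [Group D] (h : IsFC C) (e : D ≃* C) : IsFC D := by
  obtain ⟨L, i1, i2, H, hH, ⟨f⟩⟩ := h
  exact ⟨L, i1, i2, H, hH, ⟨e.trans f⟩⟩

theorem fc_of_fpf_type0 {K C : Type} [Group K] [Finite K] [Nontrivial K] [Group C] [Finite C]
    [Nontrivial C] (φ : C →* MulAut K) (hfpf : ∀ c, c ≠ 1 → ∀ k, φ c k = k → k = 1) :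
    ∃ (L : Type) (_ : Group L) (_ : Finite L) (H : Subgroup L),
      Cfsg.IsFrobeniusComplement H ∧ Nonempty (C ≃* H) ∧
        Nat.card (Cfsg.frobeniusKernel H) = Nat.card K := by
  have : Finite (SemidirectProduct K C φ) := Finite.of_equiv (K × C) SemidirectProduct.equivProd.symm
  let N : Subgroup (SemidirectProduct K C φ) := (SemidirectProduct.inl : K →* SemidirectProduct K C φ).range
  let H : Subgroup (SemidirectProduct K C φ) := (SemidirectProduct.inr : C →* SemidirectProduct K C φ).range
  have hN : N.Normal := by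
    show Subgroup.Normal (SemidirectProduct.inl : K →* SemidirectProduct K C φ).range
    rw [SemidirectProduct.range_inl_eq_ker_rightHom]
    infer_instance
  have hcN : Nat.card N = Nat.card K :=
    Nat.card_congr (MonoidHom.ofInjective SemidirectProduct.inl_injective).toEquiv.symm
  have hcH : Nat.card H = Nat.card C :=
    Nat.card_congr (MonoidHom.ofInjective SemidirectProduct.inr_injective).toEquiv.symm
  have hc : Subgroup.IsComplement' N H := by
    refine Subgroup.isComplement'_of_card_mul_and_disjoint ?_ ?_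
    · rw [hcN, hcH, SemidirectProduct.card]
    · rw [Subgroup.disjoint_def]
      rintro _ ⟨k, rfl⟩ ⟨c, hc⟩
      have := congrArg SemidirectProduct.right hc
      simp only [SemidirectProduct.right_inr, SemidirectProduct.right_inl] at this
      rw [← hc, this, map_one]
  have hK1 : N ≠ ⊥ := by
    intro e
    rw [e, Subgroup.card_bot] at hcN
    exact (Finite.one_lt_card (α := K)).ne hcN
  have hH1 : H ≠ ⊥ := by
    intro e
    rw [e, Subgroup.card_bot] at hcH
    exact (Finite.one_lt_card (α := C)).ne hcH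
  have hFC : Cfsg.IsFrobeniusComplement H := by
    refine (S0039.result N H hc hK1 hH1).2 ?_
    rintro _ ⟨c, rfl⟩ hc1
    rw [eq_bot_iff]
    rintro _ ⟨⟨k, rfl⟩, hk⟩
    replace hk := Subgroup.mem_centralizer_singleton_iff.1 hk
    have hk1 := congrArg SemidirectProduct.left hk
    simp only [SemidirectProduct.mul_left, SemidirectProduct.left_inl, SemidirectProduct.left_inr,
      SemidirectProduct.right_inr, SemidirectProduct.right_inl, map_one, mul_one, one_mul,
      MulAut.one_apply] at hk1
    have hc' : c ≠ 1 := fun h => hc1 (by rw [h, map_one])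
    rw [Subgroup.mem_bot, hfpf c hc' k hk1.symm, map_one]
  refine ⟨SemidirectProduct K C φ, inferInstance, inferInstance, H, hFC,
    ⟨MonoidHom.ofInjective SemidirectProduct.inr_injective⟩, ?_⟩
  rw [Lib.Hall.card_frobeniusKernel hFC]
  have := H.index_mul_card
  rw [hcH, SemidirectProduct.card] at this
  exact Nat.eq_of_mul_eq_mul_right Nat.card_pos this

theorem fc_of_fpf {K : Type} [Group K] [Finite K] [Nontrivial K] {C : Type*} [Group C] [Finite C]
    [Nontrivial C] (φ : C →* MulAut K) (hfpf : ∀ c, c ≠ 1 → ∀ k, φ c k = k → k = 1) :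
    ∃ (L : Type) (_ : Group L) (_ : Finite L) (H : Subgroup L),
      Cfsg.IsFrobeniusComplement H ∧ Nonempty (C ≃* H) ∧
        Nat.card (Cfsg.frobeniusKernel H) = Nat.card K := by
  obtain ⟨D, _, _, ⟨e⟩⟩ := exists_type0 C
  have : Nontrivial D := e.symm.toEquiv.nontrivial
  obtain ⟨L, i1, i2, H, hH, ⟨f⟩, hK⟩ := fc_of_fpf_type0 (φ.comp e.symm.toMonoidHom)
    (fun d hd k hk => hfpf (e.symm d) (by simpa using hd) k hk)
  exact ⟨L, i1, i2, H, hH, ⟨e.trans f⟩, hK⟩

/-- A linear fixed point free action gives a Frobenius complement. -/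
theorem fc_of_fpf_add {A : Type} [AddCommGroup A] [Finite A] [Nontrivial A] {C : Type*} [Group C]
    [Finite C] [Nontrivial C] (ρ : C →* AddMonoid.End A)
    (hfpf : ∀ c, c ≠ 1 → ∀ a, ρ c a = a → a = 0) :
    ∃ (L : Type) (_ : Group L) (_ : Finite L) (H : Subgroup L),
      Cfsg.IsFrobeniusComplement H ∧ Nonempty (C ≃* H) ∧
        Nat.card (Cfsg.frobeniusKernel H) = Nat.card A := by
  have hmul : ∀ c d : C, ∀ a : A, ρ (c * d) a = ρ c (ρ d a) := fun c d a => by
    rw [map_mul]; rfl
  have hone : ∀ a : A, ρ 1 a = a := fun a => by rw [map_one]; rfl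
  let φ : C →* MulAut (Multiplicative A) :=
    { toFun := fun c =>
        { toFun := fun x => Multiplicative.ofAdd (ρ c x.toAdd)
          invFun := fun x => Multiplicative.ofAdd (ρ c⁻¹ x.toAdd)
          left_inv := fun x => by
            show Multiplicative.ofAdd (ρ c⁻¹ (ρ c x.toAdd)) = x
            rw [← hmul, inv_mul_cancel, hone]; rfl
          right_inv := fun x => by
            show Multiplicative.ofAdd (ρ c (ρ c⁻¹ x.toAdd)) = x
            rw [← hmul, mul_inv_cancel, hone]; rfl
          map_mul' := fun x y => congrArg Multiplicative.ofAdd (map_add (ρ c) x.toAdd y.toAdd) }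
      map_one' := MulEquiv.ext fun x => congrArg Multiplicative.ofAdd (hone x.toAdd)
      map_mul' := fun c d => MulEquiv.ext fun x => congrArg Multiplicative.ofAdd (hmul c d x.toAdd) }
  obtain ⟨L, i1, i2, H, hH, hC, hK⟩ := fc_of_fpf φ fun c hc k hk => by
    exact congrArg Multiplicative.ofAdd (hfpf c hc k.toAdd (congrArg Multiplicative.toAdd hk))
  exact ⟨L, i1, i2, H, hH, hC, hK.trans (Nat.card_congr Multiplicative.toAdd)⟩

/-- A finite subgroup of the unit group of a finite ring without zero divisors. -/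
theorem fc_of_units {R : Type} [Ring R] [IsDomain R] [Finite R] {C : Type*} [Group C] [Finite C]
    [Nontrivial C] (f : C →* Rˣ) (hf : Function.Injective f) : IsFC C := by
  obtain ⟨L, i1, i2, H, hH, hC, -⟩ := fc_of_fpf_add (A := R)
    ({ toFun := fun c => AddMonoidHom.mulLeft ((f c : Rˣ) : R)
       map_one' := by ext x; rw [map_one]; exact one_mul x
       map_mul' := fun c d => by ext x; rw [map_mul]; exact mul_assoc _ _ x } : C →* AddMonoid.End R)
    fun c hc a ha => by
      by_contra h0
      refine hc (hf (Units.ext ?_))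
      rw [map_one, Units.val_one]
      exact mul_right_cancel₀ h0 (ha.trans (one_mul a).symm)
  exact ⟨L, i1, i2, H, hH, hC⟩

/-- A matrix of determinant one and order prime to the characteristic fixing a vector is trivial. -/
theorem sl2_eq_one {p m : ℕ} [Fact p.Prime] (g : Matrix.SpecialLinearGroup (Fin 2) (ZMod p))
    (hm : g ^ m = 1) (hpm : ¬ p ∣ m) (v : Fin 2 → ZMod p) (hv : v ≠ 0)
    (h : Matrix.mulVec (g : Matrix (Fin 2) (Fin 2) (ZMod p)) v = v) : g = 1 := by
  set M : Matrix (Fin 2) (Fin 2) (ZMod p) := (g : Matrix (Fin 2) (Fin 2) (ZMod p)) with hM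
  have hdet : (M - 1).det = 0 := Matrix.exists_mulVec_eq_zero_iff.1
    ⟨v, hv, by rw [Matrix.sub_mulVec, Matrix.one_mulVec, h, sub_self]⟩
  have h1 : M.det = 1 := g.2
  rw [Matrix.det_fin_two] at hdet h1
  simp only [Matrix.sub_apply, Matrix.one_apply_eq, ne_eq, zero_ne_one, not_false_eq_true,
    one_ne_zero, Matrix.one_apply_ne, sub_zero] at hdet
  have hsq : (M - 1) * (M - 1) = 0 := by
    ext i j
    fin_cases i <;> fin_cases j <;> simp [Matrix.mul_apply, Fin.sum_univ_two] <;>
      first
        | linear_combination (M 0 0 - 1) * (h1 - hdet) - hdet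
        | linear_combination (M 1 1 - 1) * (h1 - hdet) - hdet
        | linear_combination (M 0 1) * (h1 - hdet)
        | linear_combination (M 1 0) * (h1 - hdet)
  have hpow : ∀ k : ℕ, M ^ k = 1 + k • (M - 1) := by
    intro k
    induction k with
    | zero => simp
    | succ k ih =>
      rw [pow_succ, ih]
      calc (1 + k • (M - 1)) * M = (1 + k • (M - 1)) * (1 + (M - 1)) := by rw [add_sub_cancel]
        _ = 1 + (k + 1) • (M - 1) := by
          rw [mul_add, mul_one, add_mul, one_mul, smul_mul_assoc, hsq, smul_zero, add_zero,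
            succ_nsmul, add_assoc]
  have h2 : M ^ m = 1 := by
    rw [hM, ← Matrix.SpecialLinearGroup.coe_pow, hm, Matrix.SpecialLinearGroup.coe_one]
  rw [hpow, add_eq_left] at h2
  have h3 : M = 1 := by
    ext i j
    have h4 := congrFun (congrFun h2 i) j
    rw [Matrix.smul_apply, nsmul_eq_mul, Matrix.zero_apply, mul_eq_zero, ZMod.natCast_eq_zero_iff] at h4
    simpa [sub_eq_zero] using h4.resolve_left hpm
  exact Subtype.ext h3

/-- A group of order prime to `p` inside `SL₂(p)` is a Frobenius complement. -/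
theorem fc_of_sl2 {p : ℕ} [Fact p.Prime] {C : Type*} [Group C] [Finite C] [Nontrivial C]
    (f : C →* Matrix.SpecialLinearGroup (Fin 2) (ZMod p)) (hf : Function.Injective f)
    (hp : ¬ p ∣ Nat.card C) : IsFC C := by
  obtain ⟨L, i1, i2, H, hH, hC, -⟩ := fc_of_fpf_add (A := Fin 2 → ZMod p)
    ({ toFun := fun c => (Matrix.mulVecLin (f c : Matrix (Fin 2) (Fin 2) (ZMod p))).toAddMonoidHom
       map_one' := by ext v i; rw [map_one]; exact congrFun (Matrix.one_mulVec v) i
       map_mul' := fun c d => by
         ext v i; rw [map_mul]; exact congrFun (Matrix.mulVec_mulVec v _ _).symm i } : C →* AddMonoid.End (Fin 2 → ZMod p))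
    fun c hc a ha => by
      by_contra h0
      refine hc (hf ?_)
      rw [map_one]
      exact sl2_eq_one (f c) (by rw [← map_pow, pow_card_eq_one', map_one]) hp a h0 ha
  exact ⟨L, i1, i2, H, hH, hC⟩

/-- A Frobenius complement acts fixed point freely on its kernel. -/
theorem exists_kernel_of_fc {L : Type*} [Group L] [Finite L] {H : Subgroup L}
    (hF : Cfsg.IsFrobeniusComplement H) :
    ∃ K : Subgroup L, (K : Set L) = Cfsg.frobeniusKernel H ∧ K.Normal ∧ Subgroup.IsComplement' K H ∧
      K ≠ ⊥ ∧ ∀ h ∈ H, h ≠ 1 → K ⊓ Subgroup.centralizer {h} = ⊥ := by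
  obtain ⟨K, hK1, hK2, hK3⟩ := Lib.FPF.exists_frobenius_kernel hF
  have hb : K ≠ ⊥ := by
    intro e
    subst e
    exact hF.2.1 (Subgroup.isComplement'_bot_left.1 hK3)
  exact ⟨K, hK1, hK2, hK3, hb, (S0039.result K H hK3 hb hF.1).1 hF⟩

end Cfsg.Agent.Struct4
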