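import Mathlib
import Cfsg.Agent.Lib.Struct4.FrobeniusCons
import Cfsg.Agent.Lib.Struct4.CharChange
import Cfsg.Agent.Lib.FPF.FrobeniusKernel
import Cfsg.Agent.Lib.Coprime.Abelian

/-! Frobenius complements and fixed point free modules. -/

set_option autoImplicit false

open Cfsg
open scoped IsMulCommutative

namespace Cfsg.Agent.Struct4

/-- A Frobenius complement has a fixed point free module in some characteristic. -/
theorem exists_elementary_of_fc {L : Type} [Group L] [Finite L] {H : Subgroup L}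
    (hF : Cfsg.IsFrobeniusComplement H) :
    ∃ (p : ℕ) (_ : Fact p.Prime), ¬ p ∣ Nat.card H ∧
      ∃ (V : Type) (_ : AddCommGroup V) (_ : Nontrivial V) (ρ : H →* AddMonoid.End V),
        (∀ v : V, p • v = 0) ∧ ∀ c, c ≠ 1 → ∀ v, ρ c v = v → v = 0 := by
  obtain ⟨N, hN1, hNn, hNc, hNnil⟩ := Lib.FPF.exists_frobenius_kernel_nilpotent hF
  have hb : N ≠ ⊥ := by
    intro e
    subst e
    exact hF.2.1 (Subgroup.isComplement'_bot_left.1 hNc)
  have hfpf := (S0039.result N H hNc hb hF.1).1 hF
  have : Nontrivial N := (Subgroup.nontrivial_iff_ne_bot N).2 hb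
  have hZ : Nontrivial (Subgroup.center N) :=
    (Subgroup.nontrivial_iff_ne_bot _).2 (Group.IsNilpotent.center_ne_bot N)
  obtain ⟨p, hp, hpd⟩ := Nat.exists_prime_and_dvd (n := Nat.card (Subgroup.center N))
    (Finite.one_lt_card (α := Subgroup.center N)).ne'
  have := Fact.mk hp
  obtain ⟨z, hz⟩ := exists_prime_orderOf_dvd_card' p hpd
  have hpH : ¬ p ∣ Nat.card H := by
    intro h
    have h1 : p ∣ H.index :=
      hpd.trans ((Subgroup.card_subgroup_dvd_card _).trans (by rw [hNc.index_eq_card]))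
    have h2 := Lib.Hall.fc_index_mod_card hF
    have h3 : H.index % p = 1 % p := by
      have := congrArg (· % p) h2
      simpa [Nat.mod_mod_of_dvd _ h] using this
    rw [Nat.mod_eq_zero_of_dvd h1, Nat.mod_eq_of_lt hp.one_lt] at h3
    omega
  let E : Subgroup (Subgroup.center N) := (powMonoidHom p : Subgroup.center N →* Subgroup.center N).ker
  have hE : ∀ (e : Subgroup.center N ≃* Subgroup.center N), ∀ v ∈ E, e v ∈ E := fun e v hv => by
    simp only [E, MonoidHom.mem_ker, powMonoidHom_apply] at hv ⊢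
    rw [← map_pow, hv, map_one]
  let σ : H → Subgroup.center N ≃* Subgroup.center N :=
    fun h => Subgroup.centerCongr (MulAut.conjNormal (h : L) : MulAut N)
  have hσ : ∀ (h : H) (v : Subgroup.center N), ((σ h v : N) : L) = h * ((v : N) : L) * (h : L)⁻¹ :=
    fun h v => MulAut.conjNormal_apply _ _
  let ρ : H →* AddMonoid.End (Additive E) :=
    { toFun := fun h =>
        { toFun := fun v => Additive.ofMul ⟨σ h v.toMul.1, hE _ _ v.toMul.2⟩
          map_zero' := by
            apply Additive.toMul.injective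
            exact Subtype.ext (map_one (σ h))
          map_add' := fun v w => by
            apply Additive.toMul.injective
            exact Subtype.ext (map_mul (σ h) v.toMul.1 w.toMul.1) }
      map_one' := by
        refine AddMonoidHom.ext fun v => Additive.toMul.injective (Subtype.ext (Subtype.ext (Subtype.ext ?_)))
        show ((σ 1 v.toMul.1 : N) : L) = ((v.toMul.1 : N) : L)
        rw [hσ]
        simp
      map_mul' := fun g h => by
        refine AddMonoidHom.ext fun v => Additive.toMul.injective (Subtype.ext (Subtype.ext (Subtype.ext ?_)))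
        show ((σ (g * h) v.toMul.1 : N) : L) = ((σ g (σ h v.toMul.1) : N) : L)
        rw [hσ, hσ, hσ]
        simp [mul_assoc] }
  refine ⟨p, ‹_›, hpH, Additive E, inferInstance, ?_, ρ, fun v => ?_, fun c hc v hv => ?_⟩
  · refine ⟨⟨Additive.ofMul ⟨z, ?_⟩, 0, fun h => ?_⟩⟩
    · simp only [E, MonoidHom.mem_ker, powMonoidHom_apply]
      rw [← hz, pow_orderOf_eq_one]
    · have h1 : z = 1 := congrArg (fun w : Additive E => (w.toMul : Subgroup.center N)) h
      rw [h1, orderOf_one] at hz
      exact hp.one_lt.ne hz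
  · apply Additive.toMul.injective
    exact Subtype.ext v.toMul.2
  · apply Additive.toMul.injective
    refine Subtype.ext (Subtype.ext (Subtype.ext ?_))
    have hmem : ((v.toMul.1 : N) : L) ∈ N ⊓ Subgroup.centralizer {(c : L)} := by
      refine ⟨(v.toMul.1 : N).2, Subgroup.mem_centralizer_singleton_iff.2 ?_⟩
      have h1 : ((σ c v.toMul.1 : N) : L) = ((v.toMul.1 : N) : L) :=
        congrArg (fun w : Additive E => (((w.toMul : Subgroup.center N) : N) : L)) hv
      rw [hσ, mul_inv_eq_iff_eq_mul] at h1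
      exact h1.symm
    rw [hfpf c c.2 (fun h => hc (Subtype.ext h)), Subgroup.mem_bot] at hmem
    exact hmem

/-- A Frobenius complement has fixed point free modules in every characteristic prime to its order. -/
theorem exists_module_of_fc {C : Type*} [Group C] [Finite C] (h : IsFC C) {q : ℕ} [Fact q.Prime]
    (hq : ¬ q ∣ Nat.card C) :
    ∃ (T : Type) (_ : AddCommGroup T) (_ : Finite T) (_ : Nontrivial T) (ρ : C →* AddMonoid.End T),
      (∀ t : T, q • t = 0) ∧ ∀ c, c ≠ 1 → ∀ t, ρ c t = t → t = 0 := by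
  obtain ⟨L, _, _, H, hF, ⟨e⟩⟩ := h
  obtain ⟨p, _, hpH, V, _, _, σ, hpV, hσ⟩ := exists_elementary_of_fc hF
  have h1 := one_notMem_of_int (q := q) (Fact.out : q.Prime).one_lt
    fun z hz => intCast_notMem hpH (one_notMem_of_fpf hpV σ hσ) hz
  obtain ⟨T, i1, i2, i3, ρ, h2, h3⟩ := exists_fpf_module (by rwa [← Nat.card_congr e.toEquiv]) h1
  exact ⟨T, i1, i2, i3, ρ.comp e.toMonoidHom, h2, fun c hc t ht => h3 (e c) (by simpa using hc) t ht⟩

/-- A non-trivial subgroup of a Frobenius complement is a Frobenius complement. -/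
theorem IsFC.of_injective {C D : Type*} [Group C] [Group D] [Finite D] [Nontrivial D] (h : IsFC C)
    (f : D →* C) (hf : Function.Injective f) : IsFC D := by
  obtain ⟨L, _, _, H, hF, ⟨e⟩⟩ := h
  obtain ⟨K, -, hKn, -, hKb, hfpf⟩ := exists_kernel_of_fc hF
  have : Nontrivial K := (Subgroup.nontrivial_iff_ne_bot K).2 hKb
  let φ : D →* MulAut K := MulAut.conjNormal.comp ((H.subtype.comp e.toMonoidHom).comp f)
  obtain ⟨L', i1, i2, H', hH', hC, -⟩ := fc_of_fpf φ fun d hd k hk => by
    have h1 : (k : L) ∈ K ⊓ Subgroup.centralizer {((e (f d) : H) : L)} := by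
      refine ⟨k.2, Subgroup.mem_centralizer_singleton_iff.2 ?_⟩
      have h2 := congrArg Subtype.val hk
      simp only [φ, MonoidHom.coe_comp, Function.comp_apply, MulEquiv.coe_toMonoidHom,
        Subgroup.coe_subtype, MulAut.conjNormal_apply, mul_inv_eq_iff_eq_mul] at h2
      exact h2.symm
    rw [hfpf _ (e (f d)).2 (fun h => hd (hf (e.injective (Subtype.ext (by simpa using h))))),
      Subgroup.mem_bot] at h1
    exact Subtype.ext h1
  exact ⟨L', i1, i2, H', hH', hC⟩

/-- A Frobenius complement contains no subgroup of type `(r, r)`. -/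
theorem no_prime_square {C : Type*} [Group C] [Finite C] (h : IsFC C) {r : ℕ} (hr : r.Prime)
    (B : Subgroup C) (hBc : ∀ x ∈ B, ∀ y ∈ B, x * y = y * x) (hexp : ∀ x ∈ B, x ^ r = 1)
    (hB : Nat.card B = r ^ 2) : False := by
  obtain ⟨L, _, _, H, hF, ⟨e⟩⟩ := h
  obtain ⟨K, -, hKn, hKc, hKb, hfpf⟩ := exists_kernel_of_fc hF
  let φ : C →* L := H.subtype.comp e.toMonoidHom
  have hφ : Function.Injective φ := Subtype.val_injective.comp e.injective
  let B' := B.map φ
  have hB' : Nat.card B' = r ^ 2 := by rw [← hB]; exact Nat.card_congr (B.equivMapOfInjective φ hφ).toEquiv.symm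
  have hle : B' ≤ H := by
    rintro _ ⟨b, -, rfl⟩
    exact (e b).2
  have hcop : (Nat.card B').Coprime (Nat.card K) := by
    refine Nat.Coprime.coprime_dvd_left (Subgroup.card_dvd_of_le hle) ?_
    rw [← hKc.index_eq_card, Nat.Coprime, Nat.gcd_rec, Lib.Hall.fc_index_mod_card hF, ← Nat.gcd_rec,
      Nat.gcd_one_right]
  have hfg := Lib.Coprime.fixGen_eq_of_elementary (B := B') (K := K) hr
    (by rintro _ ⟨x, hx, rfl⟩ _ ⟨y, hy, rfl⟩; rw [← map_mul, ← map_mul, hBc x hx y hy])
    (by rintro _ ⟨x, hx, rfl⟩; rw [← map_pow, hexp x hx, map_one])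
    hB' (le_top.trans (Subgroup.normalizer_eq_top (H := K)).ge) hcop
  refine hKb (hfg ▸ eq_bot_iff.2 (iSup₂_le fun a ha => ?_))
  rw [hfpf a (hle ha.1) ha.2]

end Cfsg.Agent.Struct4
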