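import Cfsg.Agent.Lib.Struct4.OrderType

/-! Explicit split extensions used for the order type example. -/

set_option autoImplicit false

open Matrix

namespace Cfsg.Agent.OrderType

/-- An element of order 2 of GL_1(ℤ/3). -/
def k3_2_1m : Matrix (Fin 1) (Fin 1) (ZMod 3) := !![2]
theorem k3_2_1_o : k3_2_1m ^ 2 = 1 := by decide +kernel
theorem k3_2_1_g : ∀ g ∈ Finset.range 2, g ∣ 2 → ∀ v : Fin 1 → ZMod 3,
    (k3_2_1m ^ g) *ᵥ v = v → v = 0 := by decide +kernel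
/-- An element of order 2 of GL_1(ℤ/3), as a kind. -/
def k3_2_1 : Kind where
  q := 3
  d := 1
  o := 2
  A := k3_2_1m
  pow_o := k3_2_1_o
  free := free_of _ k3_2_1_o k3_2_1_g

/-- An element of order 2 of GL_1(ℤ/7). -/
def k7_2_1m : Matrix (Fin 1) (Fin 1) (ZMod 7) := !![6]
theorem k7_2_1_o : k7_2_1m ^ 2 = 1 := by decide +kernel
theorem k7_2_1_g : ∀ g ∈ Finset.range 2, g ∣ 2 → ∀ v : Fin 1 → ZMod 7,
    (k7_2_1m ^ g) *ᵥ v = v → v = 0 := by decide +kernel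
/-- An element of order 2 of GL_1(ℤ/7), as a kind. -/
def k7_2_1 : Kind where
  q := 7
  d := 1
  o := 2
  A := k7_2_1m
  pow_o := k7_2_1_o
  free := free_of _ k7_2_1_o k7_2_1_g

/-- An element of order 6 of GL_1(ℤ/7). -/
def k7_6_1m : Matrix (Fin 1) (Fin 1) (ZMod 7) := !![3]
theorem k7_6_1_o : k7_6_1m ^ 6 = 1 := by decide +kernel
theorem k7_6_1_g : ∀ g ∈ Finset.range 6, g ∣ 6 → ∀ v : Fin 1 → ZMod 7,
    (k7_6_1m ^ g) *ᵥ v = v → v = 0 := by decide +kernel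
/-- An element of order 6 of GL_1(ℤ/7), as a kind. -/
def k7_6_1 : Kind where
  q := 7
  d := 1
  o := 6
  A := k7_6_1m
  pow_o := k7_6_1_o
  free := free_of _ k7_6_1_o k7_6_1_g

/-- An element of order 3 of GL_1(ℤ/7). -/
def k7_3_1m : Matrix (Fin 1) (Fin 1) (ZMod 7) := !![2]
theorem k7_3_1_o : k7_3_1m ^ 3 = 1 := by decide +kernel
theorem k7_3_1_g : ∀ g ∈ Finset.range 3, g ∣ 3 → ∀ v : Fin 1 → ZMod 7,
    (k7_3_1m ^ g) *ᵥ v = v → v = 0 := by decide +kernel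
/-- An element of order 3 of GL_1(ℤ/7), as a kind. -/
def k7_3_1 : Kind where
  q := 7
  d := 1
  o := 3
  A := k7_3_1m
  pow_o := k7_3_1_o
  free := free_of _ k7_3_1_o k7_3_1_g

/-- An element of order 3 of GL_2(ℤ/2). -/
def k2_3_2m : Matrix (Fin 2) (Fin 2) (ZMod 2) := !![0, 1; 1, 1]
theorem k2_3_2_o : k2_3_2m ^ 3 = 1 := by decide +kernel
theorem k2_3_2_g : ∀ g ∈ Finset.range 3, g ∣ 3 → ∀ v : Fin 2 → ZMod 2,
    (k2_3_2m ^ g) *ᵥ v = v → v = 0 := by decide +kernel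
/-- An element of order 3 of GL_2(ℤ/2), as a kind. -/
def k2_3_2 : Kind where
  q := 2
  d := 2
  o := 3
  A := k2_3_2m
  pow_o := k2_3_2_o
  free := free_of _ k2_3_2_o k2_3_2_g

/-- An element of order 3 of GL_2(ℤ/4). -/
def k4_3_2m : Matrix (Fin 2) (Fin 2) (ZMod 4) := !![0, 3; 1, 3]
theorem k4_3_2_o : k4_3_2m ^ 3 = 1 := by decide +kernel
theorem k4_3_2_g : ∀ g ∈ Finset.range 3, g ∣ 3 → ∀ v : Fin 2 → ZMod 4,
    (k4_3_2m ^ g) *ᵥ v = v → v = 0 := by decide +kernel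
/-- An element of order 3 of GL_2(ℤ/4), as a kind. -/
def k4_3_2 : Kind where
  q := 4
  d := 2
  o := 3
  A := k4_3_2m
  pow_o := k4_3_2_o
  free := free_of _ k4_3_2_o k4_3_2_g

/-- An element of order 4 of GL_2(ℤ/3). -/
def k3_4_2m : Matrix (Fin 2) (Fin 2) (ZMod 3) := !![0, 2; 1, 0]
theorem k3_4_2_o : k3_4_2m ^ 4 = 1 := by decide +kernel
theorem k3_4_2_g : ∀ g ∈ Finset.range 4, g ∣ 4 → ∀ v : Fin 2 → ZMod 3,
    (k3_4_2m ^ g) *ᵥ v = v → v = 0 := by decide +kernel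
/-- An element of order 4 of GL_2(ℤ/3), as a kind. -/
def k3_4_2 : Kind where
  q := 3
  d := 2
  o := 4
  A := k3_4_2m
  pow_o := k3_4_2_o
  free := free_of _ k3_4_2_o k3_4_2_g

/-- An element of order 4 of GL_2(ℤ/7). -/
def k7_4_2m : Matrix (Fin 2) (Fin 2) (ZMod 7) := !![0, 6; 1, 0]
theorem k7_4_2_o : k7_4_2m ^ 4 = 1 := by decide +kernel
theorem k7_4_2_g : ∀ g ∈ Finset.range 4, g ∣ 4 → ∀ v : Fin 2 → ZMod 7,
    (k7_4_2m ^ g) *ᵥ v = v → v = 0 := by decide +kernel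
/-- An element of order 4 of GL_2(ℤ/7), as a kind. -/
def k7_4_2 : Kind where
  q := 7
  d := 2
  o := 4
  A := k7_4_2m
  pow_o := k7_4_2_o
  free := free_of _ k7_4_2_o k7_4_2_g

/-- An element of order 7 of GL_3(ℤ/2). -/
def k2_7_3m : Matrix (Fin 3) (Fin 3) (ZMod 2) := !![0, 0, 1; 1, 0, 1; 0, 1, 0]
theorem k2_7_3_o : k2_7_3m ^ 7 = 1 := by decide +kernel
theorem k2_7_3_g : ∀ g ∈ Finset.range 7, g ∣ 7 → ∀ v : Fin 3 → ZMod 2,
    (k2_7_3m ^ g) *ᵥ v = v → v = 0 := by decide +kernel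
/-- An element of order 7 of GL_3(ℤ/2), as a kind. -/
def k2_7_3 : Kind where
  q := 2
  d := 3
  o := 7
  A := k2_7_3m
  pow_o := k2_7_3_o
  free := free_of _ k2_7_3_o k2_7_3_g

/-- An element of order 21 of GL_6(ℤ/2). -/
def k2_21_6m : Matrix (Fin 6) (Fin 6) (ZMod 2) := !![0, 0, 0, 0, 0, 1; 1, 0, 0, 0, 0, 1; 0, 1, 0, 0, 0, 1; 0, 0, 1, 0, 0, 0; 0, 0, 0, 1, 0, 1; 0, 0, 0, 0, 1, 0]
theorem k2_21_6_o : k2_21_6m ^ 21 = 1 := by decide +kernel
theorem k2_21_6_g : ∀ g ∈ Finset.range 21, g ∣ 21 → ∀ v : Fin 6 → ZMod 2,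
    (k2_21_6m ^ g) *ᵥ v = v → v = 0 := by decide +kernel
/-- An element of order 21 of GL_6(ℤ/2), as a kind. -/
def k2_21_6 : Kind where
  q := 2
  d := 6
  o := 21
  A := k2_21_6m
  pow_o := k2_21_6_o
  free := free_of _ k2_21_6_o k2_21_6_g

/-- A character for factor 0. -/
def x0_0 (h : ZMod 3 × ZMod 1 × ZMod 1) : ZMod 3 :=
  ((h.1).val : ZMod 3)
theorem x0_0_add : ∀ a b, x0_0 (a + b) = x0_0 a + x0_0 b := by decide +kernel

/-- Factor 0. -/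
def s0 : Spec where
  a := 3
  b := 1
  c := 1
  k := 1
  C := ![⟨k7_3_1, x0_0, x0_0_add⟩]

/-- A character for factor 1. -/
def x1_0 (h : ZMod 4 × ZMod 1 × ZMod 1) : ZMod 2 :=
  ((h.1).val : ZMod 2)
theorem x1_0_add : ∀ a b, x1_0 (a + b) = x1_0 a + x1_0 b := by decide +kernel

/-- Factor 1. -/
def s1 : Spec where
  a := 4
  b := 1
  c := 1
  k := 2
  C := ![⟨k3_2_1, x1_0, x1_0_add⟩, ⟨k3_2_1, x1_0, x1_0_add⟩]

/-- A character for factor 2. -/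
def x2_0 (h : ZMod 3 × ZMod 1 × ZMod 1) : ZMod 3 :=
  ((h.1).val : ZMod 3)
theorem x2_0_add : ∀ a b, x2_0 (a + b) = x2_0 a + x2_0 b := by decide +kernel

/-- Factor 2. -/
def s2 : Spec where
  a := 3
  b := 1
  c := 1
  k := 1
  C := ![⟨k4_3_2, x2_0, x2_0_add⟩]

/-- A character for factor 3. -/
def x3_0 (h : ZMod 7 × ZMod 1 × ZMod 1) : ZMod 7 :=
  ((h.1).val : ZMod 7)
theorem x3_0_add : ∀ a b, x3_0 (a + b) = x3_0 a + x3_0 b := by decide +kernel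

/-- Factor 3. -/
def s3 : Spec where
  a := 7
  b := 1
  c := 1
  k := 1
  C := ![⟨k2_7_3, x3_0, x3_0_add⟩]

/-- A character for factor 4. -/
def x4_0 (h : ZMod 6 × ZMod 1 × ZMod 1) : ZMod 3 :=
  ((h.1).val : ZMod 3)
theorem x4_0_add : ∀ a b, x4_0 (a + b) = x4_0 a + x4_0 b := by decide +kernel

/-- A character for factor 4. -/
def x4_1 (h : ZMod 6 × ZMod 1 × ZMod 1) : ZMod 2 :=
  ((h.1).val : ZMod 2)
theorem x4_1_add : ∀ a b, x4_1 (a + b) = x4_1 a + x4_1 b := by decide +kernel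

/-- Factor 4. -/
def s4 : Spec where
  a := 6
  b := 1
  c := 1
  k := 2
  C := ![⟨k2_3_2, x4_0, x4_0_add⟩, ⟨k3_2_1, x4_1, x4_1_add⟩]

/-- A character for factor 5. -/
def x5_0 (h : ZMod 4 × ZMod 1 × ZMod 1) : ZMod 2 :=
  ((h.1).val : ZMod 2)
theorem x5_0_add : ∀ a b, x5_0 (a + b) = x5_0 a + x5_0 b := by decide +kernel

/-- A character for factor 5. -/
def x5_1 (h : ZMod 4 × ZMod 1 × ZMod 1) : ZMod 2 :=
  ((h.1).val : ZMod 2)
theorem x5_1_add : ∀ a b, x5_1 (a + b) = x5_1 a + x5_1 b := by decide +kernel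

/-- Factor 5. -/
def s5 : Spec where
  a := 4
  b := 1
  c := 1
  k := 2
  C := ![⟨k3_2_1, x5_0, x5_0_add⟩, ⟨k7_2_1, x5_1, x5_1_add⟩]

/-- A character for factor 6. -/
def x6_0 (h : ZMod 2 × ZMod 2 × ZMod 1) : ZMod 2 :=
  ((h.2.1).val : ZMod 2)
theorem x6_0_add : ∀ a b, x6_0 (a + b) = x6_0 a + x6_0 b := by decide +kernel

/-- A character for factor 6. -/
def x6_1 (h : ZMod 2 × ZMod 2 × ZMod 1) : ZMod 2 :=
  ((h.1).val : ZMod 2)
theorem x6_1_add : ∀ a b, x6_1 (a + b) = x6_1 a + x6_1 b := by decide +kernel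

/-- Factor 6. -/
def s6 : Spec where
  a := 2
  b := 2
  c := 1
  k := 2
  C := ![⟨k3_2_1, x6_0, x6_0_add⟩, ⟨k7_2_1, x6_1, x6_1_add⟩]

/-- A character for factor 7. -/
def x7_0 (h : ZMod 2 × ZMod 1 × ZMod 1) : ZMod 2 :=
  ((h.1).val : ZMod 2)
theorem x7_0_add : ∀ a b, x7_0 (a + b) = x7_0 a + x7_0 b := by decide +kernel

/-- A character for factor 7. -/
def x7_1 (h : ZMod 2 × ZMod 1 × ZMod 1) : ZMod 2 :=
  ((h.1).val : ZMod 2)
theorem x7_1_add : ∀ a b, x7_1 (a + b) = x7_1 a + x7_1 b := by decide +kernel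

/-- Factor 7. -/
def s7 : Spec where
  a := 2
  b := 1
  c := 1
  k := 3
  C := ![⟨k3_2_1, x7_0, x7_0_add⟩, ⟨k3_2_1, x7_0, x7_0_add⟩, ⟨k7_2_1, x7_1, x7_1_add⟩]

/-- A character for factor 8. -/
def x8_0 (h : ZMod 12 × ZMod 1 × ZMod 1) : ZMod 3 :=
  ((h.1).val : ZMod 3)
theorem x8_0_add : ∀ a b, x8_0 (a + b) = x8_0 a + x8_0 b := by decide +kernel

/-- A character for factor 8. -/
def x8_1 (h : ZMod 12 × ZMod 1 × ZMod 1) : ZMod 2 :=
  ((h.1).val : ZMod 2)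
theorem x8_1_add : ∀ a b, x8_1 (a + b) = x8_1 a + x8_1 b := by decide +kernel

/-- Factor 8. -/
def s8 : Spec where
  a := 12
  b := 1
  c := 1
  k := 2
  C := ![⟨k2_3_2, x8_0, x8_0_add⟩, ⟨k3_2_1, x8_1, x8_1_add⟩]

/-- A character for factor 9. -/
def x9_0 (h : ZMod 4 × ZMod 4 × ZMod 1) : ZMod 2 :=
  ((h.2.1).val : ZMod 2)
theorem x9_0_add : ∀ a b, x9_0 (a + b) = x9_0 a + x9_0 b := by decide +kernel

/-- A character for factor 9. -/
def x9_1 (h : ZMod 4 × ZMod 4 × ZMod 1) : ZMod 2 :=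
  ((h.1).val : ZMod 2)
theorem x9_1_add : ∀ a b, x9_1 (a + b) = x9_1 a + x9_1 b := by decide +kernel

/-- Factor 9. -/
def s9 : Spec where
  a := 4
  b := 4
  c := 1
  k := 2
  C := ![⟨k3_2_1, x9_0, x9_0_add⟩, ⟨k3_2_1, x9_1, x9_1_add⟩]

/-- A character for factor 10. -/
def x10_0 (h : ZMod 4 × ZMod 1 × ZMod 1) : ZMod 4 :=
  ((h.1).val : ZMod 4)
theorem x10_0_add : ∀ a b, x10_0 (a + b) = x10_0 a + x10_0 b := by decide +kernel

/-- A character for factor 10. -/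
def x10_1 (h : ZMod 4 × ZMod 1 × ZMod 1) : ZMod 2 :=
  ((h.1).val : ZMod 2)
theorem x10_1_add : ∀ a b, x10_1 (a + b) = x10_1 a + x10_1 b := by decide +kernel

/-- Factor 10. -/
def s10 : Spec where
  a := 4
  b := 1
  c := 1
  k := 2
  C := ![⟨k3_4_2, x10_0, x10_0_add⟩, ⟨k7_2_1, x10_1, x10_1_add⟩]

/-- A character for factor 11. -/
def x11_0 (h : ZMod 2 × ZMod 6 × ZMod 1) : ZMod 6 :=
  ((h.2.1).val : ZMod 6)
theorem x11_0_add : ∀ a b, x11_0 (a + b) = x11_0 a + x11_0 b := by decide +kernel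

/-- A character for factor 11. -/
def x11_1 (h : ZMod 2 × ZMod 6 × ZMod 1) : ZMod 2 :=
  ((h.1).val : ZMod 2)
theorem x11_1_add : ∀ a b, x11_1 (a + b) = x11_1 a + x11_1 b := by decide +kernel

/-- Factor 11. -/
def s11 : Spec where
  a := 2
  b := 6
  c := 1
  k := 2
  C := ![⟨k7_6_1, x11_0, x11_0_add⟩, ⟨k3_2_1, x11_1, x11_1_add⟩]

/-- A character for factor 12. -/
def x12_0 (h : ZMod 6 × ZMod 1 × ZMod 1) : ZMod 3 :=
  ((h.1).val : ZMod 3)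
theorem x12_0_add : ∀ a b, x12_0 (a + b) = x12_0 a + x12_0 b := by decide +kernel

/-- A character for factor 12. -/
def x12_1 (h : ZMod 6 × ZMod 1 × ZMod 1) : ZMod 2 :=
  ((h.1).val : ZMod 2)
theorem x12_1_add : ∀ a b, x12_1 (a + b) = x12_1 a + x12_1 b := by decide +kernel

/-- Factor 12. -/
def s12 : Spec where
  a := 6
  b := 1
  c := 1
  k := 3
  C := ![⟨k2_3_2, x12_0, x12_0_add⟩, ⟨k2_3_2, x12_0, x12_0_add⟩, ⟨k3_2_1, x12_1, x12_1_add⟩]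

/-- A character for factor 13. -/
def x13_0 (h : ZMod 12 × ZMod 1 × ZMod 1) : ZMod 6 :=
  ((h.1).val : ZMod 6)
theorem x13_0_add : ∀ a b, x13_0 (a + b) = x13_0 a + x13_0 b := by decide +kernel

/-- A character for factor 13. -/
def x13_1 (h : ZMod 12 × ZMod 1 × ZMod 1) : ZMod 3 :=
  ((h.1).val : ZMod 3)
theorem x13_1_add : ∀ a b, x13_1 (a + b) = x13_1 a + x13_1 b := by decide +kernel

/-- Factor 13. -/
def s13 : Spec where
  a := 12
  b := 1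
  c := 1
  k := 2
  C := ![⟨k7_6_1, x13_0, x13_0_add⟩, ⟨k2_3_2, x13_1, x13_1_add⟩]

/-- A character for factor 14. -/
def x14_0 (h : ZMod 7 × ZMod 1 × ZMod 1) : ZMod 7 :=
  ((h.1).val : ZMod 7)
theorem x14_0_add : ∀ a b, x14_0 (a + b) = x14_0 a + x14_0 b := by decide +kernel

/-- Factor 14. -/
def s14 : Spec where
  a := 7
  b := 1
  c := 1
  k := 2
  C := ![⟨k2_7_3, x14_0, x14_0_add⟩, ⟨k2_7_3, x14_0, x14_0_add⟩]

/-- A character for factor 15. -/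
def x15_0 (h : ZMod 2 × ZMod 4 × ZMod 1) : ZMod 2 :=
  ((h.2.1).val : ZMod 2)
theorem x15_0_add : ∀ a b, x15_0 (a + b) = x15_0 a + x15_0 b := by decide +kernel

/-- A character for factor 15. -/
def x15_1 (h : ZMod 2 × ZMod 4 × ZMod 1) : ZMod 2 :=
  ((h.1).val : ZMod 2)
theorem x15_1_add : ∀ a b, x15_1 (a + b) = x15_1 a + x15_1 b := by decide +kernel

/-- Factor 15. -/
def s15 : Spec where
  a := 2
  b := 4
  c := 1
  k := 3
  C := ![⟨k3_2_1, x15_0, x15_0_add⟩, ⟨k3_2_1, x15_0, x15_0_add⟩, ⟨k7_2_1, x15_1, x15_1_add⟩]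

/-- A character for factor 16. -/
def x16_0 (h : ZMod 12 × ZMod 1 × ZMod 1) : ZMod 3 :=
  ((h.1).val : ZMod 3)
theorem x16_0_add : ∀ a b, x16_0 (a + b) = x16_0 a + x16_0 b := by decide +kernel

/-- A character for factor 16. -/
def x16_1 (h : ZMod 12 × ZMod 1 × ZMod 1) : ZMod 2 :=
  ((h.1).val : ZMod 2)
theorem x16_1_add : ∀ a b, x16_1 (a + b) = x16_1 a + x16_1 b := by decide +kernel

/-- Factor 16. -/
def s16 : Spec where
  a := 12
  b := 1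
  c := 1
  k := 2
  C := ![⟨k4_3_2, x16_0, x16_0_add⟩, ⟨k3_2_1, x16_1, x16_1_add⟩]

/-- A character for factor 17. -/
def x17_0 (h : ZMod 3 × ZMod 3 × ZMod 1) : ZMod 3 :=
  ((h.2.1).val : ZMod 3)
theorem x17_0_add : ∀ a b, x17_0 (a + b) = x17_0 a + x17_0 b := by decide +kernel

/-- A character for factor 17. -/
def x17_1 (h : ZMod 3 × ZMod 3 × ZMod 1) : ZMod 3 :=
  ((h.1).val : ZMod 3)
theorem x17_1_add : ∀ a b, x17_1 (a + b) = x17_1 a + x17_1 b := by decide +kernel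

/-- Factor 17. -/
def s17 : Spec where
  a := 3
  b := 3
  c := 1
  k := 3
  C := ![⟨k2_3_2, x17_0, x17_0_add⟩, ⟨k2_3_2, x17_1, x17_1_add⟩, ⟨k2_3_2, x17_1, x17_1_add⟩]

/-- A character for factor 18. -/
def x18_0 (h : ZMod 6 × ZMod 1 × ZMod 1) : ZMod 6 :=
  ((h.1).val : ZMod 6)
theorem x18_0_add : ∀ a b, x18_0 (a + b) = x18_0 a + x18_0 b := by decide +kernel

/-- A character for factor 18. -/
def x18_1 (h : ZMod 6 × ZMod 1 × ZMod 1) : ZMod 3 :=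
  ((h.1).val : ZMod 3)
theorem x18_1_add : ∀ a b, x18_1 (a + b) = x18_1 a + x18_1 b := by decide +kernel

/-- Factor 18. -/
def s18 : Spec where
  a := 6
  b := 1
  c := 1
  k := 2
  C := ![⟨k7_6_1, x18_0, x18_0_add⟩, ⟨k4_3_2, x18_1, x18_1_add⟩]

/-- A character for factor 19. -/
def x19_0 (h : ZMod 2 × ZMod 2 × ZMod 1) : ZMod 2 :=
  ((h.2.1).val : ZMod 2)
theorem x19_0_add : ∀ a b, x19_0 (a + b) = x19_0 a + x19_0 b := by decide +kernel

/-- A character for factor 19. -/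
def x19_1 (h : ZMod 2 × ZMod 2 × ZMod 1) : ZMod 2 :=
  ((h.1).val : ZMod 2)
theorem x19_1_add : ∀ a b, x19_1 (a + b) = x19_1 a + x19_1 b := by decide +kernel

/-- A character for factor 19. -/
def x19_2 (h : ZMod 2 × ZMod 2 × ZMod 1) : ZMod 2 :=
  ((h.1).val : ZMod 2) + ((h.2.1).val : ZMod 2)
theorem x19_2_add : ∀ a b, x19_2 (a + b) = x19_2 a + x19_2 b := by decide +kernel

/-- Factor 19. -/
def s19 : Spec where
  a := 2
  b := 2
  c := 1
  k := 4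
  C := ![⟨k3_2_1, x19_0, x19_0_add⟩, ⟨k3_2_1, x19_1, x19_1_add⟩, ⟨k3_2_1, x19_1, x19_1_add⟩, ⟨k7_2_1, x19_2, x19_2_add⟩]

/-- A character for factor 20. -/
def x20_0 (h : ZMod 6 × ZMod 1 × ZMod 1) : ZMod 3 :=
  ((h.1).val : ZMod 3)
theorem x20_0_add : ∀ a b, x20_0 (a + b) = x20_0 a + x20_0 b := by decide +kernel

/-- A character for factor 20. -/
def x20_1 (h : ZMod 6 × ZMod 1 × ZMod 1) : ZMod 2 :=
  ((h.1).val : ZMod 2)
theorem x20_1_add : ∀ a b, x20_1 (a + b) = x20_1 a + x20_1 b := by decide +kernel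

/-- Factor 20. -/
def s20 : Spec where
  a := 6
  b := 1
  c := 1
  k := 4
  C := ![⟨k2_3_2, x20_0, x20_0_add⟩, ⟨k2_3_2, x20_0, x20_0_add⟩, ⟨k3_2_1, x20_1, x20_1_add⟩, ⟨k3_2_1, x20_1, x20_1_add⟩]

/-- A character for factor 21. -/
def x21_0 (h : ZMod 6 × ZMod 1 × ZMod 1) : ZMod 3 :=
  ((h.1).val : ZMod 3)
theorem x21_0_add : ∀ a b, x21_0 (a + b) = x21_0 a + x21_0 b := by decide +kernel

/-- A character for factor 21. -/
def x21_1 (h : ZMod 6 × ZMod 1 × ZMod 1) : ZMod 2 :=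
  ((h.1).val : ZMod 2)
theorem x21_1_add : ∀ a b, x21_1 (a + b) = x21_1 a + x21_1 b := by decide +kernel

/-- Factor 21. -/
def s21 : Spec where
  a := 6
  b := 1
  c := 1
  k := 3
  C := ![⟨k7_3_1, x21_0, x21_0_add⟩, ⟨k7_3_1, x21_0, x21_0_add⟩, ⟨k3_2_1, x21_1, x21_1_add⟩]

/-- A character for factor 22. -/
def x22_0 (h : ZMod 12 × ZMod 1 × ZMod 1) : ZMod 3 :=
  ((h.1).val : ZMod 3)
theorem x22_0_add : ∀ a b, x22_0 (a + b) = x22_0 a + x22_0 b := by decide +kernel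

/-- A character for factor 22. -/
def x22_1 (h : ZMod 12 × ZMod 1 × ZMod 1) : ZMod 2 :=
  ((h.1).val : ZMod 2)
theorem x22_1_add : ∀ a b, x22_1 (a + b) = x22_1 a + x22_1 b := by decide +kernel

/-- A character for factor 22. -/
def x22_2 (h : ZMod 12 × ZMod 1 × ZMod 1) : ZMod 2 :=
  ((h.1).val : ZMod 2)
theorem x22_2_add : ∀ a b, x22_2 (a + b) = x22_2 a + x22_2 b := by decide +kernel

/-- Factor 22. -/
def s22 : Spec where
  a := 12
  b := 1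
  c := 1
  k := 3
  C := ![⟨k2_3_2, x22_0, x22_0_add⟩, ⟨k3_2_1, x22_1, x22_1_add⟩, ⟨k7_2_1, x22_2, x22_2_add⟩]

/-- A character for factor 23. -/
def x23_0 (h : ZMod 2 × ZMod 6 × ZMod 1) : ZMod 3 :=
  ((h.2.1).val : ZMod 3)
theorem x23_0_add : ∀ a b, x23_0 (a + b) = x23_0 a + x23_0 b := by decide +kernel

/-- A character for factor 23. -/
def x23_1 (h : ZMod 2 × ZMod 6 × ZMod 1) : ZMod 2 :=
  ((h.2.1).val : ZMod 2)
theorem x23_1_add : ∀ a b, x23_1 (a + b) = x23_1 a + x23_1 b := by decide +kernel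

/-- A character for factor 23. -/
def x23_2 (h : ZMod 2 × ZMod 6 × ZMod 1) : ZMod 2 :=
  ((h.1).val : ZMod 2)
theorem x23_2_add : ∀ a b, x23_2 (a + b) = x23_2 a + x23_2 b := by decide +kernel

/-- Factor 23. -/
def s23 : Spec where
  a := 2
  b := 6
  c := 1
  k := 3
  C := ![⟨k2_3_2, x23_0, x23_0_add⟩, ⟨k3_2_1, x23_1, x23_1_add⟩, ⟨k7_2_1, x23_2, x23_2_add⟩]

/-- A character for factor 24. -/
def x24_0 (h : ZMod 3 × ZMod 12 × ZMod 1) : ZMod 6 :=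
  ((h.2.1).val : ZMod 6)
theorem x24_0_add : ∀ a b, x24_0 (a + b) = x24_0 a + x24_0 b := by decide +kernel

/-- A character for factor 24. -/
def x24_1 (h : ZMod 3 × ZMod 12 × ZMod 1) : ZMod 3 :=
  ((h.1).val : ZMod 3)
theorem x24_1_add : ∀ a b, x24_1 (a + b) = x24_1 a + x24_1 b := by decide +kernel

/-- Factor 24. -/
def s24 : Spec where
  a := 3
  b := 12
  c := 1
  k := 2
  C := ![⟨k7_6_1, x24_0, x24_0_add⟩, ⟨k2_3_2, x24_1, x24_1_add⟩]

/-- A character for factor 25. -/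
def x25_0 (h : ZMod 6 × ZMod 1 × ZMod 1) : ZMod 3 :=
  ((h.1).val : ZMod 3)
theorem x25_0_add : ∀ a b, x25_0 (a + b) = x25_0 a + x25_0 b := by decide +kernel

/-- A character for factor 25. -/
def x25_1 (h : ZMod 6 × ZMod 1 × ZMod 1) : ZMod 2 :=
  ((h.1).val : ZMod 2)
theorem x25_1_add : ∀ a b, x25_1 (a + b) = x25_1 a + x25_1 b := by decide +kernel

/-- A character for factor 25. -/
def x25_2 (h : ZMod 6 × ZMod 1 × ZMod 1) : ZMod 2 :=
  ((h.1).val : ZMod 2)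
theorem x25_2_add : ∀ a b, x25_2 (a + b) = x25_2 a + x25_2 b := by decide +kernel

/-- Factor 25. -/
def s25 : Spec where
  a := 6
  b := 1
  c := 1
  k := 4
  C := ![⟨k2_3_2, x25_0, x25_0_add⟩, ⟨k3_2_1, x25_1, x25_1_add⟩, ⟨k3_2_1, x25_1, x25_1_add⟩, ⟨k7_2_1, x25_2, x25_2_add⟩]

/-- A character for factor 26. -/
def x26_0 (h : ZMod 2 × ZMod 4 × ZMod 1) : ZMod 2 :=
  ((h.2.1).val : ZMod 2)
theorem x26_0_add : ∀ a b, x26_0 (a + b) = x26_0 a + x26_0 b := by decide +kernel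

/-- A character for factor 26. -/
def x26_1 (h : ZMod 2 × ZMod 4 × ZMod 1) : ZMod 2 :=
  ((h.1).val : ZMod 2)
theorem x26_1_add : ∀ a b, x26_1 (a + b) = x26_1 a + x26_1 b := by decide +kernel

/-- A character for factor 26. -/
def x26_2 (h : ZMod 2 × ZMod 4 × ZMod 1) : ZMod 2 :=
  ((h.1).val : ZMod 2) + ((h.2.1).val : ZMod 2)
theorem x26_2_add : ∀ a b, x26_2 (a + b) = x26_2 a + x26_2 b := by decide +kernel

/-- Factor 26. -/
def s26 : Spec where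
  a := 2
  b := 4
  c := 1
  k := 4
  C := ![⟨k7_2_1, x26_0, x26_0_add⟩, ⟨k3_2_1, x26_1, x26_1_add⟩, ⟨k3_2_1, x26_2, x26_2_add⟩, ⟨k3_2_1, x26_2, x26_2_add⟩]

/-- A character for factor 27. -/
def x27_0 (h : ZMod 2 × ZMod 2 × ZMod 2) : ZMod 2 :=
  ((h.2.2).val : ZMod 2)
theorem x27_0_add : ∀ a b, x27_0 (a + b) = x27_0 a + x27_0 b := by decide +kernel

/-- A character for factor 27. -/
def x27_1 (h : ZMod 2 × ZMod 2 × ZMod 2) : ZMod 2 :=
  ((h.2.1).val : ZMod 2)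
theorem x27_1_add : ∀ a b, x27_1 (a + b) = x27_1 a + x27_1 b := by decide +kernel

/-- A character for factor 27. -/
def x27_2 (h : ZMod 2 × ZMod 2 × ZMod 2) : ZMod 2 :=
  ((h.1).val : ZMod 2)
theorem x27_2_add : ∀ a b, x27_2 (a + b) = x27_2 a + x27_2 b := by decide +kernel

/-- A character for factor 27. -/
def x27_3 (h : ZMod 2 × ZMod 2 × ZMod 2) : ZMod 2 :=
  ((h.1).val : ZMod 2) + ((h.2.1).val : ZMod 2) + ((h.2.2).val : ZMod 2)
theorem x27_3_add : ∀ a b, x27_3 (a + b) = x27_3 a + x27_3 b := by decide +kernel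

/-- Factor 27. -/
def s27 : Spec where
  a := 2
  b := 2
  c := 2
  k := 4
  C := ![⟨k3_2_1, x27_0, x27_0_add⟩, ⟨k3_2_1, x27_1, x27_1_add⟩, ⟨k3_2_1, x27_2, x27_2_add⟩, ⟨k7_2_1, x27_3, x27_3_add⟩]

/-- A character for factor 28. -/
def x28_0 (h : ZMod 6 × ZMod 1 × ZMod 1) : ZMod 6 :=
  ((h.1).val : ZMod 6)
theorem x28_0_add : ∀ a b, x28_0 (a + b) = x28_0 a + x28_0 b := by decide +kernel

/-- A character for factor 28. -/
def x28_1 (h : ZMod 6 × ZMod 1 × ZMod 1) : ZMod 3 :=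
  ((h.1).val : ZMod 3)
theorem x28_1_add : ∀ a b, x28_1 (a + b) = x28_1 a + x28_1 b := by decide +kernel

/-- A character for factor 28. -/
def x28_2 (h : ZMod 6 × ZMod 1 × ZMod 1) : ZMod 2 :=
  ((h.1).val : ZMod 2)
theorem x28_2_add : ∀ a b, x28_2 (a + b) = x28_2 a + x28_2 b := by decide +kernel

/-- Factor 28. -/
def s28 : Spec where
  a := 6
  b := 1
  c := 1
  k := 4
  C := ![⟨k7_6_1, x28_0, x28_0_add⟩, ⟨k2_3_2, x28_1, x28_1_add⟩, ⟨k2_3_2, x28_1, x28_1_add⟩, ⟨k3_2_1, x28_2, x28_2_add⟩]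

/-- A character for factor 29. -/
def x29_0 (h : ZMod 6 × ZMod 1 × ZMod 1) : ZMod 6 :=
  ((h.1).val : ZMod 6)
theorem x29_0_add : ∀ a b, x29_0 (a + b) = x29_0 a + x29_0 b := by decide +kernel

/-- A character for factor 29. -/
def x29_1 (h : ZMod 6 × ZMod 1 × ZMod 1) : ZMod 2 :=
  ((h.1).val : ZMod 2)
theorem x29_1_add : ∀ a b, x29_1 (a + b) = x29_1 a + x29_1 b := by decide +kernel

/-- Factor 29. -/
def s29 : Spec where
  a := 6
  b := 1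
  c := 1
  k := 3
  C := ![⟨k7_6_1, x29_0, x29_0_add⟩, ⟨k7_2_1, x29_1, x29_1_add⟩, ⟨k7_2_1, x29_1, x29_1_add⟩]

/-- A character for factor 30. -/
def x30_0 (h : ZMod 12 × ZMod 1 × ZMod 1) : ZMod 6 :=
  ((h.1).val : ZMod 6)
theorem x30_0_add : ∀ a b, x30_0 (a + b) = x30_0 a + x30_0 b := by decide +kernel

/-- A character for factor 30. -/
def x30_1 (h : ZMod 12 × ZMod 1 × ZMod 1) : ZMod 3 :=
  ((h.1).val : ZMod 3)
theorem x30_1_add : ∀ a b, x30_1 (a + b) = x30_1 a + x30_1 b := by decide +kernel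

/-- A character for factor 30. -/
def x30_2 (h : ZMod 12 × ZMod 1 × ZMod 1) : ZMod 2 :=
  ((h.1).val : ZMod 2)
theorem x30_2_add : ∀ a b, x30_2 (a + b) = x30_2 a + x30_2 b := by decide +kernel

/-- Factor 30. -/
def s30 : Spec where
  a := 12
  b := 1
  c := 1
  k := 3
  C := ![⟨k7_6_1, x30_0, x30_0_add⟩, ⟨k2_3_2, x30_1, x30_1_add⟩, ⟨k7_2_1, x30_2, x30_2_add⟩]

/-- A character for factor 31. -/
def x31_0 (h : ZMod 4 × ZMod 4 × ZMod 1) : ZMod 4 :=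
  ((h.2.1).val : ZMod 4)
theorem x31_0_add : ∀ a b, x31_0 (a + b) = x31_0 a + x31_0 b := by decide +kernel

/-- A character for factor 31. -/
def x31_1 (h : ZMod 4 × ZMod 4 × ZMod 1) : ZMod 2 :=
  ((h.1).val : ZMod 2)
theorem x31_1_add : ∀ a b, x31_1 (a + b) = x31_1 a + x31_1 b := by decide +kernel

/-- A character for factor 31. -/
def x31_2 (h : ZMod 4 × ZMod 4 × ZMod 1) : ZMod 2 :=
  ((h.1).val : ZMod 2) + ((h.2.1).val : ZMod 2)
theorem x31_2_add : ∀ a b, x31_2 (a + b) = x31_2 a + x31_2 b := by decide +kernel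

/-- Factor 31. -/
def s31 : Spec where
  a := 4
  b := 4
  c := 1
  k := 3
  C := ![⟨k3_4_2, x31_0, x31_0_add⟩, ⟨k3_2_1, x31_1, x31_1_add⟩, ⟨k7_2_1, x31_2, x31_2_add⟩]

/-- A character for factor 32. -/
def x32_0 (h : ZMod 2 × ZMod 4 × ZMod 1) : ZMod 2 :=
  ((h.2.1).val : ZMod 2)
theorem x32_0_add : ∀ a b, x32_0 (a + b) = x32_0 a + x32_0 b := by decide +kernel

/-- A character for factor 32. -/
def x32_1 (h : ZMod 2 × ZMod 4 × ZMod 1) : ZMod 2 :=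
  ((h.1).val : ZMod 2)
theorem x32_1_add : ∀ a b, x32_1 (a + b) = x32_1 a + x32_1 b := by decide +kernel

/-- A character for factor 32. -/
def x32_2 (h : ZMod 2 × ZMod 4 × ZMod 1) : ZMod 2 :=
  ((h.1).val : ZMod 2) + ((h.2.1).val : ZMod 2)
theorem x32_2_add : ∀ a b, x32_2 (a + b) = x32_2 a + x32_2 b := by decide +kernel

/-- Factor 32. -/
def s32 : Spec where
  a := 2
  b := 4
  c := 1
  k := 4
  C := ![⟨k7_2_1, x32_0, x32_0_add⟩, ⟨k3_2_1, x32_1, x32_1_add⟩, ⟨k3_2_1, x32_1, x32_1_add⟩, ⟨k7_2_1, x32_2, x32_2_add⟩]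

/-- A character for factor 33. -/
def x33_0 (h : ZMod 4 × ZMod 4 × ZMod 1) : ZMod 4 :=
  ((h.2.1).val : ZMod 4)
theorem x33_0_add : ∀ a b, x33_0 (a + b) = x33_0 a + x33_0 b := by decide +kernel

/-- A character for factor 33. -/
def x33_1 (h : ZMod 4 × ZMod 4 × ZMod 1) : ZMod 2 :=
  ((h.1).val : ZMod 2)
theorem x33_1_add : ∀ a b, x33_1 (a + b) = x33_1 a + x33_1 b := by decide +kernel

/-- A character for factor 33. -/
def x33_2 (h : ZMod 4 × ZMod 4 × ZMod 1) : ZMod 2 :=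
  ((h.1).val : ZMod 2) + ((h.2.1).val : ZMod 2)
theorem x33_2_add : ∀ a b, x33_2 (a + b) = x33_2 a + x33_2 b := by decide +kernel

/-- Factor 33. -/
def s33 : Spec where
  a := 4
  b := 4
  c := 1
  k := 4
  C := ![⟨k3_4_2, x33_0, x33_0_add⟩, ⟨k3_2_1, x33_1, x33_1_add⟩, ⟨k3_2_1, x33_2, x33_2_add⟩, ⟨k3_2_1, x33_2, x33_2_add⟩]

/-- A character for factor 34. -/
def x34_0 (h : ZMod 21 × ZMod 1 × ZMod 1) : ZMod 21 :=
  ((h.1).val : ZMod 21)
theorem x34_0_add : ∀ a b, x34_0 (a + b) = x34_0 a + x34_0 b := by decide +kernel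

/-- A character for factor 34. -/
def x34_1 (h : ZMod 21 × ZMod 1 × ZMod 1) : ZMod 3 :=
  ((h.1).val : ZMod 3)
theorem x34_1_add : ∀ a b, x34_1 (a + b) = x34_1 a + x34_1 b := by decide +kernel

/-- Factor 34. -/
def s34 : Spec where
  a := 21
  b := 1
  c := 1
  k := 2
  C := ![⟨k2_21_6, x34_0, x34_0_add⟩, ⟨k2_3_2, x34_1, x34_1_add⟩]

/-- A character for factor 35. -/
def x35_0 (h : ZMod 12 × ZMod 1 × ZMod 1) : ZMod 6 :=
  ((h.1).val : ZMod 6)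
theorem x35_0_add : ∀ a b, x35_0 (a + b) = x35_0 a + x35_0 b := by decide +kernel

/-- A character for factor 35. -/
def x35_1 (h : ZMod 12 × ZMod 1 × ZMod 1) : ZMod 4 :=
  ((h.1).val : ZMod 4)
theorem x35_1_add : ∀ a b, x35_1 (a + b) = x35_1 a + x35_1 b := by decide +kernel

/-- A character for factor 35. -/
def x35_2 (h : ZMod 12 × ZMod 1 × ZMod 1) : ZMod 2 :=
  ((h.1).val : ZMod 2)
theorem x35_2_add : ∀ a b, x35_2 (a + b) = x35_2 a + x35_2 b := by decide +kernel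

/-- Factor 35. -/
def s35 : Spec where
  a := 12
  b := 1
  c := 1
  k := 3
  C := ![⟨k7_6_1, x35_0, x35_0_add⟩, ⟨k7_4_2, x35_1, x35_1_add⟩, ⟨k3_2_1, x35_2, x35_2_add⟩]

/-- A character for factor 36. -/
def x36_0 (h : ZMod 2 × ZMod 6 × ZMod 1) : ZMod 6 :=
  ((h.2.1).val : ZMod 6)
theorem x36_0_add : ∀ a b, x36_0 (a + b) = x36_0 a + x36_0 b := by decide +kernel

/-- A character for factor 36. -/
def x36_1 (h : ZMod 2 × ZMod 6 × ZMod 1) : ZMod 2 :=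
  ((h.2.1).val : ZMod 2)
theorem x36_1_add : ∀ a b, x36_1 (a + b) = x36_1 a + x36_1 b := by decide +kernel

/-- A character for factor 36. -/
def x36_2 (h : ZMod 2 × ZMod 6 × ZMod 1) : ZMod 2 :=
  ((h.1).val : ZMod 2)
theorem x36_2_add : ∀ a b, x36_2 (a + b) = x36_2 a + x36_2 b := by decide +kernel

/-- A character for factor 36. -/
def x36_3 (h : ZMod 2 × ZMod 6 × ZMod 1) : ZMod 6 :=
  3 * ((h.1).val : ZMod 6) + ((h.2.1).val : ZMod 6)
theorem x36_3_add : ∀ a b, x36_3 (a + b) = x36_3 a + x36_3 b := by decide +kernel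

/-- Factor 36. -/
def s36 : Spec where
  a := 2
  b := 6
  c := 1
  k := 4
  C := ![⟨k7_6_1, x36_0, x36_0_add⟩, ⟨k3_2_1, x36_1, x36_1_add⟩, ⟨k7_2_1, x36_2, x36_2_add⟩, ⟨k7_6_1, x36_3, x36_3_add⟩]

/-- A character for factor 37. -/
def x37_0 (h : ZMod 6 × ZMod 6 × ZMod 1) : ZMod 6 :=
  ((h.2.1).val : ZMod 6)
theorem x37_0_add : ∀ a b, x37_0 (a + b) = x37_0 a + x37_0 b := by decide +kernel

/-- A character for factor 37. -/
def x37_1 (h : ZMod 6 × ZMod 6 × ZMod 1) : ZMod 6 :=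
  ((h.1).val : ZMod 6)
theorem x37_1_add : ∀ a b, x37_1 (a + b) = x37_1 a + x37_1 b := by decide +kernel

/-- A character for factor 37. -/
def x37_2 (h : ZMod 6 × ZMod 6 × ZMod 1) : ZMod 6 :=
  2 * ((h.1).val : ZMod 6) + 3 * ((h.2.1).val : ZMod 6)
theorem x37_2_add : ∀ a b, x37_2 (a + b) = x37_2 a + x37_2 b := by decide +kernel

/-- Factor 37. -/
def s37 : Spec where
  a := 6
  b := 6
  c := 1
  k := 3
  C := ![⟨k7_6_1, x37_0, x37_0_add⟩, ⟨k7_6_1, x37_1, x37_1_add⟩, ⟨k7_6_1, x37_2, x37_2_add⟩]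

/-- A character for factor 38. -/
def x38_0 (h : ZMod 2 × ZMod 4 × ZMod 1) : ZMod 4 :=
  ((h.2.1).val : ZMod 4)
theorem x38_0_add : ∀ a b, x38_0 (a + b) = x38_0 a + x38_0 b := by decide +kernel

/-- A character for factor 38. -/
def x38_1 (h : ZMod 2 × ZMod 4 × ZMod 1) : ZMod 2 :=
  ((h.2.1).val : ZMod 2)
theorem x38_1_add : ∀ a b, x38_1 (a + b) = x38_1 a + x38_1 b := by decide +kernel

/-- A character for factor 38. -/
def x38_2 (h : ZMod 2 × ZMod 4 × ZMod 1) : ZMod 2 :=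
  ((h.1).val : ZMod 2)
theorem x38_2_add : ∀ a b, x38_2 (a + b) = x38_2 a + x38_2 b := by decide +kernel

/-- A character for factor 38. -/
def x38_3 (h : ZMod 2 × ZMod 4 × ZMod 1) : ZMod 2 :=
  ((h.1).val : ZMod 2) + ((h.2.1).val : ZMod 2)
theorem x38_3_add : ∀ a b, x38_3 (a + b) = x38_3 a + x38_3 b := by decide +kernel

/-- Factor 38. -/
def s38 : Spec where
  a := 2
  b := 4
  c := 1
  k := 5
  C := ![⟨k3_4_2, x38_0, x38_0_add⟩, ⟨k7_2_1, x38_1, x38_1_add⟩, ⟨k3_2_1, x38_2, x38_2_add⟩, ⟨k3_2_1, x38_3, x38_3_add⟩, ⟨k3_2_1, x38_3, x38_3_add⟩]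

/-- An abelian factor. -/
def ab22 : Spec where
  a := 2
  b := 2
  c := 1
  k := 0
  C := Fin.elim0

/-- An abelian factor. -/
def ab44 : Spec where
  a := 4
  b := 4
  c := 1
  k := 0
  C := Fin.elim0

/-- An abelian factor. -/
def ab337 : Spec where
  a := 3
  b := 3
  c := 7
  k := 0
  C := Fin.elim0

/-- The factors on one side. -/
def posF : Fin 22 → Spec :=
  ![s0, s2, s3, s4, s7, s8, s9, s10, s13, s14, s16, s24, s25, s26, s27, s28, s30, s32, s33, s36, s37, ab22]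

/-- The factors on one side. -/
def negF : Fin 21 → Spec :=
  ![s1, s5, s6, s11, s12, s15, s17, s18, s19, s20, s21, s22, s23, s29, s31, s34, s35, s38, ab44, ab44, ab337]

end Cfsg.Agent.OrderType
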