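import Cfsg.Agent.Lib.Struct4.Basic
import Mathlib.GroupTheory.Transfer
import Mathlib.GroupTheory.Solvable
import Mathlib.GroupTheory.Nilpotent

set_option autoImplicit false

universe u

namespace Cfsg.Agent.Lib.Struct4

variable {G : Type u} [Group G] [Finite G] {p : ℕ} [Fact p.Prime]

omit [Fact p.Prime] in
theorem relIndex_sup_left_of_le_normalizer (H U : Subgroup G)
    (hH : H ≤ Subgroup.normalizer (U : Set G)) : H.relIndex (H ⊔ U) = H.relIndex U := by
  set N := Subgroup.normalizer (U : Set G)
  have hU : U ≤ N := Subgroup.le_normalizer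
  have : (U.subgroupOf N).Normal := Subgroup.normal_in_normalizer
  rw [← Subgroup.relIndex_subgroupOf (H := H) (sup_le hH hU), ← Subgroup.relIndex_subgroupOf (H := H) hU,
    Subgroup.subgroupOf_sup hH hU]
  exact relIndex_sup_left_eq _ _

/-- The number of Sylow `p`-subgroups of `U`, computed in `G`. -/
theorem card_sylow_subgroup (U T : Subgroup G) (hTU : T ≤ U) (hT : IsPGroup p T)
    (hd : ¬ p ∣ T.relIndex U) :
    Nat.card (Sylow p U) = (Subgroup.normalizer (T : Set G)).relIndex U := by
  have h1 : IsPGroup p (T.subgroupOf U) := hT.of_equiv (Subgroup.subgroupOfEquivOfLe hTU).symm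
  have h2 := (h1.toSylow hd).card_eq_index_normalizer
  rw [h2]
  show (Subgroup.normalizer ((T.subgroupOf U : Subgroup U) : Set U)).index = _
  rw [← Subgroup.subgroupOf_normalizer_eq hTU]
  rfl

theorem card_sylow_of_le (P : Sylow p G) (U : Subgroup G) (hPU : (P : Subgroup G) ≤ U) :
    Nat.card (Sylow p U) = (Subgroup.normalizer ((P : Subgroup G) : Set G)).relIndex U :=
  card_sylow_subgroup U _ hPU P.isPGroup'
    (fun h => P.not_dvd_index (h.trans (Subgroup.relIndex_dvd_index_of_le hPU)))

theorem inf_normal_sylow (P : Sylow p G) (K : Subgroup G) [K.Normal] :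
    ¬ p ∣ ((P : Subgroup G) ⊓ K).relIndex K := by
  rw [Subgroup.inf_relIndex_right]
  exact fun h => P.not_dvd_index (h.trans (relIndex_dvd_index_of_normal_right _ K))

theorem card_sylow_normal (P : Sylow p G) (K : Subgroup G) [K.Normal] :
    Nat.card (Sylow p K) =
      (Subgroup.normalizer (((P : Subgroup G) ⊓ K : Subgroup G) : Set G)).relIndex K :=
  card_sylow_subgroup K _ inf_le_right (P.isPGroup'.to_le inf_le_left) (inf_normal_sylow P K)

theorem card_sylow_quotient (P : Sylow p G) (K : Subgroup G) [K.Normal] :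
    Nat.card (Sylow p G) = Nat.card (Sylow p (G ⧸ K)) *
      (Subgroup.normalizer ((P : Subgroup G) : Set G)).relIndex ((P : Subgroup G) ⊔ K) := by
  set U := (P : Subgroup G) ⊔ K
  set NP := Subgroup.normalizer ((P : Subgroup G) : Set G)
  set NU := Subgroup.normalizer (U : Set G)
  have hmap : ((P : Subgroup G).map (QuotientGroup.mk' K)).comap (QuotientGroup.mk' K) = U := by
    rw [Subgroup.comap_map_eq, QuotientGroup.ker_mk']
  have hquot : Nat.card (Sylow p (G ⧸ K)) = NU.index := by
    rw [(P.mapSurjective (QuotientGroup.mk'_surjective K)).card_eq_index_normalizer]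
    show (Subgroup.normalizer (((P : Subgroup G).map (QuotientGroup.mk' K) : Subgroup (G ⧸ K)) : Set (G ⧸ K))).index = _
    rw [← Subgroup.index_comap_of_surjective _ (QuotientGroup.mk'_surjective K),
      Subgroup.comap_normalizer_eq_of_surjective _ (QuotientGroup.mk'_surjective K), hmap]
  have hPU : (P : Subgroup G) ≤ U := le_sup_left
  have hUN : U ≤ NU := Subgroup.le_normalizer
  have hNPU : NP ≤ NU := by
    intro g hg
    refine Subgroup.mem_normalizer_iff_map_conj_eq.2 ?_
    rw [Subgroup.map_sup, Subgroup.mem_normalizer_iff_map_conj_eq.1 hg]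
    congr 1
    exact Subgroup.mem_normalizer_iff_map_conj_eq.1
      ((Subgroup.normalizer_eq_top_iff.2 (inferInstance : K.Normal)).symm ▸ Subgroup.mem_top g)
  have hNU : NP ⊔ U = NU := by
    refine le_antisymm (sup_le hNPU hUN) ?_
    intro g hg
    have hle : ((g • P : Sylow p G) : Subgroup G) ≤ U := by
      intro x hx
      rw [mem_normal_smul_sylow] at hx
      have := (Subgroup.mem_normalizer_iff.1 hg (g⁻¹ * x * g)).1 (hPU hx)
      simpa [mul_assoc] using this
    obtain ⟨u, hu⟩ := MulAction.exists_smul_eq U (P.subtype hPU) ((g • P).subtype hle)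
    rw [Sylow.smul_subtype] at hu
    have hu' : (u : G) • P = g • P := Sylow.subtype_injective hu
    have h1 : ((u : G)⁻¹ * g) ∈ NP := by
      refine Sylow.smul_eq_iff_mem_normalizer.1 ?_
      rw [mul_smul, ← hu', inv_smul_smul]
    have h2 := (NP ⊔ U).mul_mem (Subgroup.mem_sup_right (S := NP) u.2) (Subgroup.mem_sup_left (T := U) h1)
    simpa using h2
  rw [P.card_eq_index_normalizer, hquot, mul_comm, ← relIndex_sup_left_of_le_normalizer NP U hNPU, hNU,
    Subgroup.relIndex_mul_index hNPU]
  rfl

/-- P. Hall's product formula for the number of Sylow `p`-subgroups. -/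
theorem card_sylow_formula (P : Sylow p G) (K : Subgroup G) [K.Normal] (N : Subgroup G)
    (hN : N = ((P : Subgroup G) ⊔ K) ⊓ Subgroup.normalizer (((P : Subgroup G) ⊓ K : Subgroup G) : Set G))
    [(((P : Subgroup G) ⊓ K).subgroupOf N).Normal] :
    Nat.card (Sylow p G) = Nat.card (Sylow p (G ⧸ K)) * Nat.card (Sylow p K) *
      Nat.card (Sylow p (N ⧸ ((P : Subgroup G) ⊓ K).subgroupOf N)) := by
  set U := (P : Subgroup G) ⊔ K
  set NP := Subgroup.normalizer ((P : Subgroup G) : Set G)
  set T := (P : Subgroup G) ⊓ K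
  set M := Subgroup.normalizer (T : Set G)
  have hPM : NP ≤ M := by
    intro g hg
    refine Subgroup.mem_normalizer_iff_map_conj_eq.2 ?_
    rw [Subgroup.map_inf _ _ _ (MulAut.conj g).injective, Subgroup.mem_normalizer_iff_map_conj_eq.1 hg]
    congr 1
    exact Subgroup.mem_normalizer_iff_map_conj_eq.1
      ((Subgroup.normalizer_eq_top_iff.2 (inferInstance : K.Normal)).symm ▸ Subgroup.mem_top g)
  have hPN : (P : Subgroup G) ≤ N := hN ▸ le_inf le_sup_left (Subgroup.le_normalizer.trans hPM)
  have hNU : N ≤ U := hN ▸ inf_le_left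
  have hN1 : Nat.card (Sylow p (N ⧸ T.subgroupOf N)) = NP.relIndex N := by
    have h := card_sylow_quotient (G := N) (P.subtype hPN) (T.subgroupOf N)
    rw [Sylow.coe_subtype, card_sylow_of_le P N hPN] at h
    have hTP : T.subgroupOf N ≤ (P : Subgroup G).subgroupOf N := fun x hx => hx.1
    rw [sup_eq_left.2 hTP, Subgroup.relIndex_eq_one.2 Subgroup.le_normalizer, mul_one] at h
    exact h.symm
  have hK : Nat.card (Sylow p K) = M.relIndex U := by
    rw [card_sylow_normal P K]
    have hsup : (M ⊓ U) ⊔ K = U := le_antisymm (sup_le inf_le_right le_sup_right)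
      (sup_le (le_sup_of_le_left (le_inf (Subgroup.le_normalizer.trans hPM) le_sup_left)) le_sup_right)
    have h1 := relIndex_sup_left_eq (M ⊓ U) K
    rw [hsup, Subgroup.inf_relIndex_right] at h1
    rw [h1, ← Subgroup.inf_relIndex_right (M ⊓ U) K, inf_assoc, inf_eq_right.2 (le_sup_right : K ≤ U),
      Subgroup.inf_relIndex_right]
  have h2 : NP.relIndex N * M.relIndex U = NP.relIndex U := by
    have e := Subgroup.relIndex_mul_relIndex (NP ⊓ U) N U (hN ▸ le_inf inf_le_right (inf_le_left.trans hPM)) hNU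
    have e1 : (NP ⊓ U).relIndex N = NP.relIndex N := by
      rw [← Subgroup.inf_relIndex_right NP N, ← Subgroup.inf_relIndex_right (NP ⊓ U) N, inf_assoc,
        inf_eq_right.2 hNU]
    have e2 : N.relIndex U = M.relIndex U := by
      rw [hN, inf_comm, Subgroup.inf_relIndex_right]
    rw [e1, e2, Subgroup.inf_relIndex_right] at e
    exact e
  rw [hN1, hK, card_sylow_quotient P K, mul_assoc, mul_comm (M.relIndex U), h2]

end Cfsg.Agent.Lib.Struct4
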