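import Cfsg.Agent.Lib.Struct4.SylowCount
import Mathlib.GroupTheory.IndexNormal

set_option autoImplicit false
open Pointwise

universe u

namespace Cfsg.Agent.Lib.Struct4

variable {G : Type u} [Group G] [Finite G] {p : ℕ} [Fact p.Prime]

theorem orbit_card_eq (P Q : Sylow p G) :
    Nat.card (MulAction.orbit (P : Subgroup G) Q) = (Q : Subgroup G).relIndex (P : Subgroup G) := by
  rw [Nat.card_coe_set_eq, ← MulAction.index_stabilizer (G := (P : Subgroup G))]
  show _ = ((Q : Subgroup G).subgroupOf (P : Subgroup G)).index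
  congr 1
  ext x
  rw [MulAction.mem_stabilizer_iff, Subgroup.mem_subgroupOf]
  show (x : G) • Q = Q ↔ _
  rw [Sylow.smul_eq_iff_mem_normalizer]
  constructor
  · intro hx
    obtain ⟨k, hk⟩ := IsPGroup.iff_orderOf.1 P.isPGroup' x
    exact mem_sylow_of_normalizer Q hx ⟨k, by rw [Subgroup.orderOf_coe]; exact hk⟩
  · exact fun hx => Subgroup.le_normalizer hx

/-- If `1 < n_p < p ^ 2` then any two distinct Sylow `p`-subgroups meet in index `p`. -/
theorem relIndex_eq_prime (hn : Nat.card (Sylow p G) < p ^ 2) {P Q : Sylow p G} (h : P ≠ Q) :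
    (Q : Subgroup G).relIndex (P : Subgroup G) = p := by
  obtain ⟨k, hk⟩ := P.isPGroup'.index ((Q : Subgroup G).subgroupOf (P : Subgroup G))
  have hk' : (Q : Subgroup G).relIndex (P : Subgroup G) = p ^ k := hk
  have hlt : (Q : Subgroup G).relIndex (P : Subgroup G) < p ^ 2 := by
    rw [← orbit_card_eq]
    exact lt_of_le_of_lt (Nat.card_le_card_of_injective _ Subtype.val_injective) hn
  rw [hk'] at hlt ⊢
  have hk2 := (Nat.pow_lt_pow_iff_right (Fact.out : p.Prime).one_lt).1 hlt
  interval_cases k
  · rw [pow_zero, Subgroup.relIndex_eq_one] at hk'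
    exact absurd (Sylow.ext (P.is_maximal' Q.isPGroup' hk')).symm h
  · rw [pow_one]

/-- If `n_p < p ^ 2` and a Sylow `p`-subgroup has order at least `p ^ 2`, there is a nontrivial
normal `p`-subgroup. -/
theorem exists_normal_pSubgroup (hn : Nat.card (Sylow p G) < p ^ 2) (P : Sylow p G)
    (hP : p < Nat.card P) : ∃ T : Subgroup G, T.Normal ∧ T ≠ ⊥ ∧ IsPGroup p T := by
  classical
  have hp : p.Prime := Fact.out
  by_cases hall : ∀ Q : Sylow p G, Q = P
  · have : Subsingleton (Sylow p G) := ⟨fun A B => (hall A).trans (hall B).symm⟩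
    refine ⟨P, P.normal_of_subsingleton, ?_, P.isPGroup'⟩
    rw [← (Subgroup.one_lt_card_iff_ne_bot _)]
    exact hp.one_lt.trans hP
  push Not at hall
  obtain ⟨Q, hQP⟩ := hall
  set T := (P : Subgroup G) ⊓ (Q : Subgroup G)
  have hcard : ∀ A B : Sylow p G, A ≠ B →
      Nat.card ((A : Subgroup G) ⊓ (B : Subgroup G) : Subgroup G) * p = Nat.card P := by
    intro A B hAB
    have h1 := ((B : Subgroup G).subgroupOf (A : Subgroup G)).card_mul_index
    have h2 : ((B : Subgroup G).subgroupOf (A : Subgroup G)).index = p := relIndex_eq_prime hn hAB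
    rw [h2] at h1
    rw [← Nat.card_congr (P.equiv A).toEquiv.symm] 
    rw [← h1]
    congr 1
    rw [← Subgroup.inf_subgroupOf_left, Nat.card_congr (Subgroup.subgroupOfEquivOfLe inf_le_left).toEquiv]
  by_cases hT : ∀ R : Sylow p G, T ≤ (R : Subgroup G)
  · refine ⟨Subgroup.normalClosure (T : Set G), Subgroup.normalClosure_normal, ?_, ?_⟩
    · intro hb
      have hTb : T = ⊥ := le_bot_iff.1 (hb ▸ Subgroup.subset_normalClosure)
      have := hcard P Q (Ne.symm hQP)
      rw [show ((P : Subgroup G) ⊓ (Q : Subgroup G)) = T from rfl, hTb, Subgroup.card_bot] at this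
      omega
    · refine P.isPGroup'.to_le ?_
      rw [Subgroup.normalClosure, Subgroup.closure_le]
      intro y hy
      obtain ⟨a, ha, hay⟩ := Group.mem_conjugatesOfSet_iff.1 hy
      obtain ⟨c, rfl⟩ := isConj_iff.1 hay
      have := hT (c⁻¹ • P) ha
      rw [mem_normal_smul_sylow, inv_inv] at this
      exact this
  push Not at hT
  obtain ⟨R, hTR⟩ := hT
  cases nonempty_fintype (Sylow p G)
  set X := Finset.univ.filter (fun A : Sylow p G => T ≤ (A : Subgroup G)) with hX
  have hPR : P ≠ R := fun h => hTR (h ▸ inf_le_left)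
  -- the orbit of `Q` under `P`
  have horb : ∀ (A B : Sylow p G), A ≠ B →
      p ≤ (Finset.univ.filter (fun C : Sylow p G => C ≠ A ∧ (A : Subgroup G) ⊓ (B : Subgroup G) ≤ (C : Subgroup G))).card := by
    intro A B hAB
    have h1 := orbit_card_eq A B
    rw [relIndex_eq_prime hn hAB] at h1
    have hn' : (((B : Subgroup G).subgroupOf (A : Subgroup G))).Normal := by
      have := A.isPGroup'.isNilpotent
      refine Subgroup.normal_of_index_eq_minFac_card ?_
      obtain ⟨k, hk⟩ := IsPGroup.iff_card.1 A.isPGroup'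
      have h2 : ((B : Subgroup G).subgroupOf (A : Subgroup G)).index = p := relIndex_eq_prime hn hAB
      have hk0 : k ≠ 0 := by
        rintro rfl
        have := ((B : Subgroup G).subgroupOf (A : Subgroup G)).index_dvd_card
        rw [h2, hk, pow_zero, Nat.dvd_one] at this
        exact hp.one_lt.ne' this
      rw [h2, hk, Nat.Prime.pow_minFac hp hk0]
    refine le_of_eq_of_le h1.symm ?_
    rw [Nat.card_eq_fintype_card, ← Fintype.card_coe]
    refine Fintype.card_le_of_injective (fun C => ⟨C.1, ?_⟩) (fun C D h => Subtype.ext (congrArg Subtype.val h :))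
    obtain ⟨C, ⟨a, rfl⟩⟩ := C
    simp only [Finset.mem_filter, Finset.mem_univ, true_and]
    refine ⟨fun h => hAB ?_, fun x hx => ?_⟩
    · have h0 : (a : G) • B = A := h
      have ha : (a : G)⁻¹ • A = A := Sylow.smul_eq_iff_mem_normalizer.2 (Subgroup.le_normalizer (inv_mem a.2))
      exact ha.symm.trans (inv_smul_eq_iff.2 h0.symm)
    · show x ∈ (((a : G) • B : Sylow p G) : Subgroup G)
      rw [mem_normal_smul_sylow]
      have h3 := hn'.conj_mem ⟨x, hx.1⟩ hx.2 a⁻¹
      rw [Subgroup.mem_subgroupOf] at h3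
      simpa using h3
  have hXcard : p + 1 ≤ X.card := by
    have hins : insert P (Finset.univ.filter (fun C : Sylow p G => C ≠ P ∧ T ≤ (C : Subgroup G))) ⊆ X := by
      intro C hC
      simp only [hX, Finset.mem_filter, Finset.mem_univ, true_and, Finset.mem_insert] at hC ⊢
      rcases hC with rfl | ⟨_, h⟩
      · exact inf_le_left
      · exact h
    refine le_trans ?_ (Finset.card_le_card hins)
    rw [Finset.card_insert_of_notMem (by simp)]
    exact Nat.add_le_add_right (horb P Q (Ne.symm hQP)) 1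
  set Y : Sylow p G → Finset (Sylow p G) := fun A =>
    Finset.univ.filter (fun C => C ≠ R ∧ (R : Subgroup G) ⊓ (A : Subgroup G) ≤ (C : Subgroup G)) with hY
  have hRX : ∀ A ∈ X, R ≠ A := by
    intro A hA h
    subst h
    simp only [hX, Finset.mem_filter] at hA
    exact hTR hA.2
  have hsum : X.card * p ≤ ∑ A ∈ X, (Y A).card := by
    rw [← smul_eq_mul, ← Finset.sum_const]
    exact Finset.sum_le_sum fun A hA => horb R A (hRX A hA)
  have hdisj : (X : Set (Sylow p G)).PairwiseDisjoint Y := by
    intro A hA A' hA' hne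
    rw [Function.onFun, Finset.disjoint_left]
    intro C hC hC'
    simp only [hY, Finset.mem_filter, Finset.mem_univ, true_and] at hC hC'
    have key : ∀ A : Sylow p G, A ∈ X → (R : Subgroup G) ⊓ (A : Subgroup G) ≤ (C : Subgroup G) →
        (R : Subgroup G) ⊓ (A : Subgroup G) = (R : Subgroup G) ⊓ (C : Subgroup G) := by
      intro B hB hle
      refine Subgroup.eq_of_le_of_card_ge (le_inf inf_le_left hle) ?_
      exact le_of_eq (mul_right_cancel₀ hp.ne_zero
        ((hcard R C (Ne.symm hC.1)).trans (hcard R B (hRX B hB)).symm))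
    have e := (key A hA hC.2).trans (key A' hA' hC'.2).symm
    simp only [hX, Finset.coe_filter, Finset.mem_univ, true_and, Set.mem_setOf_eq] at hA hA'
    have hA1 : (A : Subgroup G) ⊓ (A' : Subgroup G) = T := by
      refine (Subgroup.eq_of_le_of_card_ge (le_inf hA hA') ?_).symm
      exact le_of_eq (mul_right_cancel₀ hp.ne_zero
        ((hcard A A' hne).trans (hcard P Q (Ne.symm hQP)).symm))
    have hD : (R : Subgroup G) ⊓ (A : Subgroup G) ≤ T := by
      rw [← hA1]
      exact le_inf inf_le_right (e ▸ inf_le_right)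
    have hDT : (R : Subgroup G) ⊓ (A : Subgroup G) = T := by
      refine Subgroup.eq_of_le_of_card_ge hD ?_
      refine le_of_eq (mul_right_cancel₀ hp.ne_zero ?_)
      refine (hcard P Q (Ne.symm hQP)).trans (hcard R A ?_).symm
      intro h
      subst h
      exact hTR hA
    exact hTR (hDT ▸ inf_le_left)
  rw [← Finset.card_biUnion hdisj] at hsum
  have hle : (X.biUnion Y).card ≤ Nat.card (Sylow p G) := by
    rw [Nat.card_eq_fintype_card]
    exact Finset.card_le_univ _
  have := Nat.mul_le_mul_right p hXcard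
  nlinarith

theorem card_sylow_eq_prime_of_simple [IsSimpleGroup G] (hG : ¬ IsMulCommutative G) (hp : p ∣ Nat.card G)
    (hn : Nat.card (Sylow p G) < p ^ 2) (P : Sylow p G) : Nat.card P = p := by
  obtain ⟨k, hk⟩ := IsPGroup.iff_card.1 P.isPGroup'
  have hpP : p ∣ Nat.card (P : Subgroup G) := P.dvd_card_of_dvd_card hp
  refine le_antisymm ?_ (Nat.le_of_dvd Nat.card_pos hpP)
  by_contra hlt
  obtain ⟨T, hT, hTb, hTp⟩ := exists_normal_pSubgroup hn P (by omega)
  have hTt := (hT.eq_bot_or_eq_top).resolve_left hTb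
  subst hTt
  have := (hTp.of_equiv Subgroup.topEquiv).isNilpotent
  exact hG ⟨⟨fun a b => (mul_comm a b : _)⟩⟩

end Cfsg.Agent.Lib.Struct4
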