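import Cfsg.Agent.Lib.Struct4.SylowCount
import Mathlib.GroupTheory.SpecificGroups.Cyclic

set_option autoImplicit false

namespace Cfsg.Agent.Lib.Struct4

variable {G : Type*} [Group G] [Finite G] {p : ℕ} [Fact p.Prime]

theorem not_simple_of_normalizer_le_centralizer (P : Sylow p G) (hb : (P : Subgroup G) ≠ ⊥)
    (ht : (P : Subgroup G) ≠ ⊤)
    (h : Subgroup.normalizer ((P : Subgroup G) : Set G) ≤ Subgroup.centralizer ((P : Subgroup G) : Set G)) :
    ¬ IsSimpleGroup G := by
  intro hs
  have hc := MonoidHom.ker_transferSylow_isComplement' P h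
  rcases (inferInstance : (MonoidHom.transferSylow P h).ker.Normal).eq_bot_or_eq_top with h0 | h0
  · rw [h0] at hc
    exact ht (Subgroup.isComplement'_bot_left.1 hc)
  · rw [h0] at hc
    exact hb (Subgroup.isComplement'_top_left.1 hc)

theorem not_simple_of_prime_sylow (P : Sylow p G) (hP : Nat.card P = p) (hlt : p < Nat.card G)
    (hcop : Nat.Coprime (Nat.card G) (p - 1)) : ¬ IsSimpleGroup G := by
  have hb : (P : Subgroup G) ≠ ⊥ := fun h => by
    rw [h, Subgroup.card_bot] at hP
    exact (Fact.out : p.Prime).one_lt.ne hP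
  have ht : (P : Subgroup G) ≠ ⊤ := fun h => by
    rw [h, Subgroup.card_top] at hP
    omega
  refine not_simple_of_normalizer_le_centralizer P hb ht ?_
  haveI hcyc : IsCyclic (P : Subgroup G) := isCyclic_of_prime_card hP
  have key := Subgroup.card_dvd_of_injective _ (QuotientGroup.kerLift_injective (P : Subgroup G).normalizerMonoidHom)
  rw [Subgroup.normalizerMonoidHom_ker, ← Subgroup.index, ← Subgroup.relIndex, hcyc.card_mulAut, hP,
    Nat.totient_prime (Fact.out : p.Prime)] at key
  refine Subgroup.relIndex_eq_one.mp (Nat.eq_one_of_dvd_coprimes hcop ?_ key)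
  exact (Subgroup.relIndex_dvd_card _ _).trans (Subgroup.card_subgroup_dvd_card _)

end Cfsg.Agent.Lib.Struct4
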